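import Mathlib
import Cfsg.Agent.S4493
import Cfsg.Agent.Char.ExtendInv
import Cfsg.Agent.Char.NormalSub
import Cfsg.Agent.Char.CliffordCorrespondence

/-!
Degrees of the characters over a character of a normal subgroup with a complement.
-/

set_option autoImplicit false
set_option linter.style.haveILetI false
set_option linter.unusedSectionVars false

namespace CfsgLib.PalfyThree

open CfsgLib.Char

universe u

variable {G : Type u} [Group G] [Finite G]

/-- No irreducible character degree is divisible by `q`. -/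
def NoDeg (G : Type u) [Group G] (q : ℕ) : Prop :=
  ∀ χ : G → ℂ, Cfsg.IsIrrCharacter G χ → ∀ d : ℕ, χ 1 = d → ¬ q ∣ d

theorem NoDeg.exists_sylow [Group.IsSolvable G] {q : ℕ} [Fact q.Prime] (h : NoDeg G q) :
    ∃ P : Subgroup G, P.Normal ∧ (∀ x ∈ P, ∀ y ∈ P, x * y = y * x) ∧ IsPGroup q P ∧ ¬ q ∣ P.index :=
  Cfsg.Agent.S4493.exists_sylow _ G rfl inferInstance h

theorem noDeg_of_surjective {G' : Type u} [Group G'] {f : G →* G'} (hf : Function.Surjective f) {q : ℕ}
    (h : NoDeg G q) : NoDeg G' q := fun χ hχ d hd =>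
  h _ (IsIrrCharacter.comp_surjective hχ f hf) d (by rw [map_one, hd])

/-- A subgroup of index prime to `q` without degrees divisible by `q` contains just one Sylow subgroup,
which is abelian and normal in it. -/
theorem sylow_of_noDeg [Group.IsSolvable G] {S : Subgroup G} {q : ℕ} [Fact q.Prime] (hi : ¬ q ∣ S.index)
    (hS : NoDeg S q) :
    ∃ Q : Sylow q G, (Q : Subgroup G) ≤ S ∧ S ≤ Subgroup.normalizer ((Q : Subgroup G) : Set G) ∧
      (∀ x ∈ (Q : Subgroup G), ∀ y ∈ (Q : Subgroup G), x * y = y * x) ∧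
      ∀ Q' : Sylow q G, (Q' : Subgroup G) ≤ S → Q' = Q := by
  obtain ⟨P, hPn, hPc, hPp, hPi⟩ := hS.exists_sylow
  have hindex : ¬ q ∣ (P.map S.subtype).index := by
    rw [Subgroup.index_map_subtype]
    exact fun h => ((Fact.out : q.Prime).dvd_mul.1 h).elim hPi hi
  let Q : Sylow q G := (hPp.map S.subtype).toSylow hindex
  refine ⟨Q, Subgroup.map_subtype_le P, fun g hg => ?_, ?_, fun Q' hQ' => ?_⟩
  · rw [Subgroup.mem_normalizer_iff]
    have key : ∀ g ∈ S, ∀ x ∈ P.map S.subtype, g * x * g⁻¹ ∈ P.map S.subtype := by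
      rintro g hg _ ⟨x, hx, rfl⟩
      exact ⟨_, hPn.conj_mem x hx ⟨g, hg⟩, rfl⟩
    refine fun x => ⟨key g hg x, fun hx => ?_⟩
    have h := key g⁻¹ (inv_mem hg) _ hx
    rwa [show g⁻¹ * (g * x * g⁻¹) * g⁻¹⁻¹ = x by group] at h
  · rintro _ ⟨x, hx, rfl⟩ _ ⟨y, hy, rfl⟩
    exact congrArg S.subtype (hPc x hx y hy)
  · haveI := hPn
    haveI := Sylow.unique_of_normal (hPp.toSylow hPi) hPn
    have h1 : Q'.subtype hQ' = hPp.toSylow hPi := Subsingleton.elim _ _
    refine Sylow.ext ?_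
    show (Q' : Subgroup G) = P.map S.subtype
    have h2 := congrArg (fun R : Sylow q S => (R : Subgroup S).map S.subtype) h1
    simp only [Sylow.coe_subtype, IsPGroup.toSylow_coe, Subgroup.subgroupOf_map_subtype] at h2
    rwa [inf_eq_left.2 hQ'] at h2

/-- The retraction onto a complement. -/
theorem exists_retraction (X H : Subgroup G) [X.Normal] (hsup : X ⊔ H = ⊤) (hinf : X ⊓ H = ⊥) :
    ∃ π : G →* H, π.ker = X ∧ (∀ h : H, π h = h) ∧ ∀ g, g * (π g : G)⁻¹ ∈ X := by
  let f : H →* G ⧸ X := (QuotientGroup.mk' X).comp H.subtype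
  have hinj : Function.Injective f := (injective_iff_map_eq_one f).2 fun h hh => by
    have h1 : (h : G) ∈ X ⊓ H := ⟨(QuotientGroup.eq_one_iff _).1 hh, h.2⟩
    rw [hinf, Subgroup.mem_bot] at h1
    exact Subtype.ext h1
  have hsurj : Function.Surjective f := by
    intro y
    obtain ⟨g, rfl⟩ := QuotientGroup.mk_surjective y
    have hg : g ∈ (↑(X ⊔ H) : Set G) := by rw [hsup]; exact Subgroup.mem_top g
    rw [Subgroup.normal_mul] at hg
    obtain ⟨x, hx, h, hh, rfl⟩ := hg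
    refine ⟨⟨h, hh⟩, ?_⟩
    show ((h : G) : G ⧸ X) = ((x * h : G) : G ⧸ X)
    rw [QuotientGroup.mk_mul, (QuotientGroup.eq_one_iff x).2 hx, one_mul]
  let e := MulEquiv.ofBijective f ⟨hinj, hsurj⟩
  have hker : ∀ g : G, e.symm (g : G ⧸ X) = 1 ↔ g ∈ X := fun g => by
    rw [MulEquiv.map_eq_one_iff]; exact QuotientGroup.eq_one_iff g
  refine ⟨e.symm.toMonoidHom.comp (QuotientGroup.mk' X), ?_, fun h => e.symm_apply_apply h, fun g => ?_⟩
  · ext g; exact hker g
  · rw [← QuotientGroup.eq_one_iff, QuotientGroup.mk_mul, QuotientGroup.mk_inv]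
    show (g : G ⧸ X) * (e (e.symm (g : G ⧸ X)))⁻¹ = 1
    rw [e.apply_symm_apply, mul_inv_cancel]

/-- The characters of degree prime to `q` over an extendible character. -/
theorem inertia_noDeg [Fintype G] (X H : Subgroup G) [X.Normal] [Fintype X] (hsup : X ⊔ H = ⊤)
    (hinf : X ⊓ H = ⊥) {θ : X → ℂ} (hθ : Cfsg.IsIrrCharacter X θ)
    {E : inertia θ → ℂ} (hE : Cfsg.IsIrrCharacter (inertia θ) E)
    (hEX : ∀ (x : X) (hx : (x : G) ∈ inertia θ), E ⟨x, hx⟩ = θ x) {q : ℕ}
    (hdeg : ∀ χ : G → ℂ, Cfsg.IsIrrCharacter G χ → Cfsg.classInner (fun n : X => χ n) θ ≠ 0 →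
      ∀ d : ℕ, χ 1 = d → ¬ q ∣ d) :
    ¬ q ∣ ((inertia θ).subgroupOf H).index ∧ NoDeg ((inertia θ).subgroupOf H) q := by
  classical
  revert E
  set T := inertia θ
  intro E hE hEX
  have hXT : X ≤ T := le_inertia (IsIrrCharacter.isClassFunction hθ)
  haveI := Fintype.ofFinite T
  haveI := Fintype.ofFinite (X.subgroupOf T)
  obtain ⟨π, hπker, hπid, hπX⟩ := exists_retraction X H hsup hinf
  have hπT : (T.subgroupOf H).comap π = T := by
    ext g
    rw [Subgroup.mem_comap, Subgroup.mem_subgroupOf]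
    have h1 : g * (π g : G)⁻¹ ∈ T := hXT (hπX g)
    constructor
    · intro h
      have h2 := mul_mem h1 h
      rwa [inv_mul_cancel_right] at h2
    · intro h
      have h2 := mul_mem (inv_mem h1) h
      rwa [mul_inv_rev, inv_inv, mul_assoc, inv_mul_cancel, mul_one] at h2
  let πT : T →* T.subgroupOf H := (π.comp T.subtype).codRestrict _ fun t => hπT.ge t.2
  have hπTs : Function.Surjective πT := fun h =>
    ⟨⟨((h : H) : G), Subgroup.mem_subgroupOf.1 h.2⟩, Subtype.ext (hπid h.1)⟩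
  have hTidx : T.index = (T.subgroupOf H).index := by
    conv_lhs => rw [← hπT]
    exact Subgroup.index_comap_of_surjective _ fun h => ⟨h, hπid h⟩
  have hEfun : (fun n : X => E (Subgroup.inclusion hXT n)) = θ := funext fun n => hEX n (hXT n.2)
  have hE1 : E 1 = θ 1 := hEX 1 (one_mem T)
  have hres : (fun n : X.subgroupOf T => E n) = pullBack θ := funext fun n =>
    hEX ⟨((n : T) : G), Subgroup.mem_subgroupOf.1 n.2⟩ (n : T).2
  have hG1 := gallagher_one (N := X.subgroupOf T) hE (by rw [hres]; exact isIrrCharacter_pullBack hXT hθ)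
  have hβ : ∀ β : T.subgroupOf H → ℂ, Cfsg.IsIrrCharacter _ β → ∀ d : ℕ, β 1 = d →
      ¬ q ∣ T.index * d := by
    intro β hβ d hd hq
    have hmem := hG1.mapsTo (show (fun t => β (πT t)) ∈ _ from
      ⟨IsIrrCharacter.comp_surjective hβ πT hπTs, fun n hn => by
        have h1 : πT n = 1 := Subtype.ext (show π ((n : T) : G) = 1 from
          MonoidHom.mem_ker.1 (hπker.ge (Subgroup.mem_subgroupOf.1 hn)))
        show β (πT n) = β (πT 1)
        rw [h1, map_one]⟩)
    obtain ⟨hirr, hc⟩ := hmem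
    have hc' : Cfsg.classInner (fun n : X => ((fun t => β (πT t)) * E) (Subgroup.inclusion hXT n)) θ ≠ 0 := by
      rw [← classInner_pullBack hXT]
      simp only [hres] at hc
      exact hc
    obtain ⟨hind, hindc⟩ := isIrrCharacter_indFun_of_inertia hXT hθ (rfl : inertia θ = T) hirr hc'
    obtain ⟨m, -, hm⟩ := IsIrrCharacter.exists_degree hθ
    refine hdeg _ hind (hindc ▸ hc') (T.index * (d * m)) ?_ (hq.trans ⟨m, by ring⟩)
    rw [indFun_one, Pi.mul_apply, map_one, hd, hE1, hm, Nat.cast_mul, Nat.cast_mul]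
  refine ⟨fun hq => ?_, fun β hb d hd hq => hβ β hb d hd (hq.mul_left _)⟩
  exact hβ _ isIrrCharacter_one 1 Nat.cast_one.symm (by rw [mul_one, hTidx]; exact hq)

/-- A linear character of a complemented normal subgroup extends to its inertia group. -/
theorem exists_linear_extension [Fintype G] (X H : Subgroup G) [X.Normal] (hsup : X ⊔ H = ⊤)
    (hinf : X ⊓ H = ⊥) (lam : X →* ℂˣ) :
    ∃ E : inertia (fun n : X => (lam n : ℂ)) → ℂ, Cfsg.IsIrrCharacter _ E ∧
      ∀ (x : X) (hx : (x : G) ∈ inertia (fun n : X => (lam n : ℂ))), E ⟨x, hx⟩ = lam x := by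
  set T := inertia (fun n : X => (lam n : ℂ))
  obtain ⟨π, hπker, -, hπX⟩ := exists_retraction X H hsup hinf
  have hXT : X ≤ T := le_inertia (IsIrrCharacter.isClassFunction (isIrrCharacter_ofHom lam))
  have hπT : ∀ t : T, (π t : G) ∈ T := fun t => by
    have h2 := mul_mem (inv_mem (hXT (hπX t))) t.2
    rwa [mul_inv_rev, inv_inv, mul_assoc, inv_mul_cancel, mul_one] at h2
  let F : T →* ℂˣ := MonoidHom.mk' (fun t => lam ⟨(t : G) * (π t : G)⁻¹, hπX t⟩) fun t t' => by
    rw [show lam ⟨(t' : G) * (π t' : G)⁻¹, hπX t'⟩ =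
      lam ⟨(π t : G) * ((t' : G) * (π t' : G)⁻¹) * (π t : G)⁻¹,
        ‹X.Normal›.conj_mem _ (hπX t') _⟩ from
      (Units.ext ((mem_inertia_iff _ _).1 (hπT t) ⟨_, hπX t'⟩)).symm, ← map_mul]
    refine congrArg lam (Subtype.ext ?_)
    show ((t : G) * t') * (π ((t : G) * t') : G)⁻¹ = _
    rw [map_mul, Subgroup.coe_mul, Subgroup.coe_mul]
    group
  refine ⟨fun t => (F t : ℂ), isIrrCharacter_ofHom F, fun x hx => ?_⟩
  show ((lam ⟨(x : G) * (π x : G)⁻¹, _⟩ : ℂˣ) : ℂ) = _
  congr 2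
  apply Subtype.ext
  show (x : G) * (π x : G)⁻¹ = x
  rw [MonoidHom.mem_ker.1 (hπker.ge x.2), Subgroup.coe_one, inv_one, mul_one]

/-- A character of a normal Hall subgroup extends to its inertia group. -/
theorem exists_coprime_extension [Fintype G] (X : Subgroup G) [X.Normal]
    (hcop : (Nat.card X).Coprime X.index) {θ : X → ℂ} (hθ : Cfsg.IsIrrCharacter X θ) :
    ∃ E : inertia θ → ℂ, Cfsg.IsIrrCharacter _ E ∧
      ∀ (x : X) (hx : (x : G) ∈ inertia θ), E ⟨x, hx⟩ = θ x := by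
  haveI := Fintype.ofFinite X
  haveI := Fintype.ofFinite (inertia θ)
  have hXT : X ≤ inertia θ := le_inertia (IsIrrCharacter.isClassFunction hθ)
  obtain ⟨E, hE, hres⟩ := exists_extension_of_coprime (G := inertia θ) (N := X.subgroupOf (inertia θ))
    (isIrrCharacter_pullBack hXT hθ) (fun g n =>
      (mem_inertia_iff θ (g : G)).1 g.2 ⟨((n : inertia θ) : G), Subgroup.mem_subgroupOf.1 n.2⟩)
    (by
      rw [Nat.card_congr (Subgroup.subgroupOfEquivOfLe hXT).toEquiv]
      exact hcop.coprime_dvd_right (Subgroup.relIndex_dvd_index_of_normal X (inertia θ)))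
  exact ⟨E, hE, fun x hx => hres ⟨⟨x, hx⟩, Subgroup.mem_subgroupOf.2 x.2⟩⟩

end CfsgLib.PalfyThree
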