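import Mathlib
import Cfsg.Agent.Zsigmondy.PrimitivePart

/-!
Arithmetic for Pálfy's three primes theorem: primitive prime divisors and the small cases.
-/

set_option autoImplicit false

namespace CfsgLib.PalfyThree

/-- `l` is a primitive prime divisor of `s ^ b - 1`. -/
def IsPrim (s b l : ℕ) : Prop :=
  l.Prime ∧ l ∣ s ^ b - 1 ∧ ∀ i, 1 ≤ i → i < b → ¬ l ∣ s ^ i - 1

/-- A primitive prime divisor attached to a table entry. -/
def excPrime : ℕ × ℕ → ℕ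
  | (2, 4) => 5
  | (2, 10) => 11
  | (2, 12) => 13
  | (2, 18) => 19
  | (3, 4) => 5
  | (3, 6) => 7
  | (5, 6) => 7
  | (2, 3) => 7
  | (2, 8) => 17
  | (2, 20) => 41
  | (4, 3) => 7
  | (4, 6) => 13
  | _ => 1

theorem excPrime_spec : ∀ x ∈ CfsgLib.Zsig.exceptions, x ≠ (2, 6) →
    (excPrime x).Prime ∧ excPrime x ∣ x.1 ^ x.2 - 1 ∧ ∀ i < x.2, 1 ≤ i → ¬ excPrime x ∣ x.1 ^ i - 1 := by
  intro x hx hne
  simp only [CfsgLib.Zsig.exceptions, List.mem_cons, List.not_mem_nil, or_false] at hx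
  rcases hx with rfl | rfl | rfl | rfl | rfl | rfl | rfl | rfl | rfl | rfl | rfl | rfl | rfl <;>
    first
    | exact absurd rfl hne
    | exact ⟨by norm_num [excPrime], by decide, by decide⟩

theorem prim_of_dvd {s b M l : ℕ} (hl : l.Prime) (hlM : l ∣ M) (hM : M ∣ s ^ b - 1)
    (hc : ∀ i : ℕ, 1 ≤ i → i < b → Nat.Coprime M (s ^ i - 1)) : IsPrim s b l :=
  ⟨hl, hlM.trans hM, fun i h1 h2 h3 => hl.ne_one (Nat.eq_one_of_dvd_coprimes (hc i h1 h2) hlM h3)⟩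

theorem exists_prim {s b : ℕ} (hs : 2 ≤ s) (hb : 3 ≤ b) (hx : (s, b) ≠ (2, 6)) : ∃ l, IsPrim s b l := by
  by_cases he : (s, b) ∈ CfsgLib.Zsig.exceptions
  · obtain ⟨h1, h2, h3⟩ := excPrime_spec _ he hx
    exact ⟨_, h1, h2, fun i hi hib => h3 i hib hi⟩
  · obtain ⟨M, hM, hc, hge⟩ := CfsgLib.Zsig.exists_primitive_part hs hb he
    obtain ⟨l, hl, hlM⟩ := Nat.exists_prime_and_dvd (show M ≠ 1 by omega)
    exact ⟨l, prim_of_dvd hl hlM hM hc⟩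

theorem not_exception {s m : ℕ} (hs : Odd s) (hm : (s, 2 ^ m) ≠ (3, 4)) :
    (s, 2 ^ m) ∉ CfsgLib.Zsig.exceptions := by
  intro h
  simp only [CfsgLib.Zsig.exceptions, List.mem_cons, List.not_mem_nil, or_false, Prod.mk.injEq] at h
  have h6 : 2 ^ m ≠ 6 := by
    intro e
    have : m < 3 := (Nat.pow_lt_pow_iff_right (by norm_num : 1 < 2)).1 (by rw [e]; norm_num)
    interval_cases m <;> simp at e
  rw [Nat.odd_iff] at hs
  simp only [ne_eq, Prod.mk.injEq] at hm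
  omega

theorem pow_sub_factor {s f b : ℕ} (h : f ≤ b) : s ^ b - s ^ f = s ^ f * (s ^ (b - f) - 1) := by
  rw [Nat.mul_sub, mul_one, ← pow_add, Nat.add_sub_cancel' h]

/-- A primitive prime does not divide `s`. -/
theorem IsPrim.not_dvd {s b l : ℕ} (h : IsPrim s b l) (hs : 2 ≤ s) (hb : 1 ≤ b) : ¬ l ∣ s := by
  intro hd
  have h1 : l ∣ s ^ b := hd.trans (dvd_pow_self s (by omega))
  have h2 : 1 ≤ s ^ b := Nat.one_le_pow _ _ (by omega)
  have h3 : l ∣ s ^ b - (s ^ b - 1) := Nat.dvd_sub h1 h.2.1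
  rw [Nat.sub_sub_self h2] at h3
  exact h.1.ne_one (Nat.dvd_one.1 h3)

theorem IsPrim.le_pred {s b l : ℕ} (h : IsPrim s b l) (hs : 2 ≤ s) (hb : 1 ≤ b) : b + 1 ≤ l := by
  have hl := h.1.two_le
  by_contra hlt
  refine h.2.2 (l - 1) (by omega) (by omega) ?_
  haveI := Fact.mk h.1
  have h1 : ((s : ZMod l)) ^ (l - 1) = 1 := ZMod.pow_card_sub_one_eq_one fun h0 =>
    h.not_dvd hs hb ((ZMod.natCast_eq_zero_iff _ _).1 h0)
  rw [← ZMod.natCast_eq_zero_iff, Nat.cast_sub (Nat.one_le_pow _ _ (by omega)), Nat.cast_one, Nat.cast_pow, h1, sub_self]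

theorem IsPrim.exp_eq {s b l f : ℕ} (h : IsPrim s b l) (hs : 2 ≤ s) (hf : f ≤ b)
    (hmod : s ^ b ≡ s ^ f [MOD l]) : f = 0 ∨ f = b := by
  by_contra hcon
  push Not at hcon
  have h1 := (Nat.modEq_iff_dvd' (Nat.pow_le_pow_right (by omega) hf)).1 hmod.symm
  rw [pow_sub_factor hf] at h1
  rcases (Nat.Prime.dvd_mul h.1).1 h1 with h2 | h2
  · exact h.not_dvd hs (by omega) (h.1.dvd_of_dvd_pow h2)
  · exact h.2.2 (b - f) (by omega) (by omega) h2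

theorem dvd_of_pow_sub_one_dvd {s w b : ℕ} (hs : 2 ≤ s) (h : s ^ w - 1 ∣ s ^ b - 1) : w ∣ b := by
  have h1 := Nat.pow_sub_one_gcd_pow_sub_one s w b
  rw [Nat.gcd_eq_left h] at h1
  have h2 : s ^ w = s ^ Nat.gcd w b := by
    have := Nat.one_le_pow w s (by omega)
    have := Nat.one_le_pow (Nat.gcd w b) s (by omega)
    omega
  rw [Nat.pow_right_injective hs h2]
  exact Nat.gcd_dvd_right w b

/-- The numerical conditions on the fixed spaces of a pair of primes. -/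
def SmallOK (s b q r w : ℕ) : Prop :=
  r ≠ s ∧ ∀ f < b, ∀ e ≤ b - f, e ≤ w →
    ¬ (s ^ b % r = s ^ f % r ∧ s ^ e % r = 1 % r ∧ s ^ (b - f) % q = s ^ e % q)

instance (s b q r w : ℕ) : Decidable (SmallOK s b q r w) := by
  unfold SmallOK; infer_instance

set_option synthInstance.maxSize 4000 in
set_option synthInstance.maxHeartbeats 400000 in
theorem small_check : ∀ x ∈ [(3, 4), (2, 6)], ∀ w < x.2, ∀ w' < x.2, ∀ q ∈ [2, 3, 5, 13, 31],
    ∀ r ∈ [2, 3, 5, 13, 31], q ≠ r → 1 ≤ w → 1 ≤ w' →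
      (x.1 ^ w - 1) ∣ (x.1 ^ x.2 - 1) → (x.1 ^ w' - 1) ∣ (x.1 ^ x.2 - 1) →
      q ∣ (x.1 ^ x.2 - 1) / (x.1 ^ w - 1) - 1 → r ∣ (x.1 ^ x.2 - 1) / (x.1 ^ w' - 1) - 1 →
      SmallOK x.1 x.2 q r w ∨ SmallOK x.1 x.2 r q w' := by
  decide +kernel

theorem small_prime : ∀ x ∈ [(3, 4), (2, 6)], ∀ w < x.2, 1 ≤ w → (x.1 ^ w - 1) ∣ (x.1 ^ x.2 - 1) →
    (x.1 ^ x.2 - 1) / (x.1 ^ w - 1) - 1 ∈ [39, 9, 62, 20, 8] := by
  decide +kernel

theorem mem_small {q N : ℕ} (hN : N ∈ [39, 9, 62, 20, 8]) (hq : q.Prime) (h : q ∣ N) :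
    q ∈ [2, 3, 5, 13, 31] := by
  have hle : q ≤ N := Nat.le_of_dvd (by simp at hN; omega) h
  simp only [List.mem_cons, List.not_mem_nil, or_false] at hN ⊢
  rcases hN with rfl | rfl | rfl | rfl | rfl <;> interval_cases q <;>
    first | omega | (norm_num at hq) | (norm_num at h)

theorem small_table {s b : ℕ} (hsb : (s, b) = (3, 4) ∨ (s, b) = (2, 6)) {w w' q r : ℕ} (hw : w < b)
    (hw' : w' < b) (hq : q.Prime) (hr : r.Prime) (hne : q ≠ r) (h1 : 1 ≤ w) (h1' : 1 ≤ w')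
    (hd : (s ^ w - 1) ∣ (s ^ b - 1)) (hd' : (s ^ w' - 1) ∣ (s ^ b - 1))
    (hqd : q ∣ (s ^ b - 1) / (s ^ w - 1) - 1) (hrd : r ∣ (s ^ b - 1) / (s ^ w' - 1) - 1) :
    SmallOK s b q r w ∨ SmallOK s b r q w' := by
  have hmem : (s, b) ∈ [(3, 4), (2, 6)] := by simpa using hsb
  exact small_check _ hmem w hw w' hw' q (mem_small (small_prime _ hmem w hw h1 hd) hq hqd) r
    (mem_small (small_prime _ hmem w' hw' h1' hd') hr hrd) hne h1 h1' hd hd' hqd hrd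

end CfsgLib.PalfyThree
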