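import Mathlib
import Cfsg.Agent.PalfyThree.Arith

/-!
Operators whose order is a primitive prime: fixed points and centralisers.
-/

set_option autoImplicit false
set_option linter.style.haveILetI false

namespace CfsgLib.PalfyThree

variable {V : Type*} [CommGroup V] [Finite V] {s b : ℕ} [hs : Fact s.Prime]

/-- The fixed points of an operator. -/
def fixSub (e : MulAut V) : Subgroup V where
  carrier := {v | e v = v}
  one_mem' := map_one e
  mul_mem' := fun {a c} (ha : e a = a) (hc : e c = c) => by
    show e (a * c) = a * c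
    rw [map_mul, ha, hc]
  inv_mem' := fun {a} (ha : e a = a) => by
    show e a⁻¹ = a⁻¹
    rw [map_inv, ha]

theorem mem_fixSub {e : MulAut V} {v : V} : v ∈ fixSub e ↔ e v = v := Iff.rfl

theorem exists_card_pow (hV : ∀ v : V, v ^ s = 1) (W : Subgroup V) : ∃ u, Nat.card W = s ^ u :=
  IsPGroup.exists_card_eq fun w => ⟨1, Subtype.ext (by rw [pow_one]; exact hV w)⟩

theorem card_modEq_fix {l : ℕ} [Fact l.Prime] {e : MulAut V} (he : e ^ l = 1) {W : Subgroup V}
    (hW : ∀ w ∈ W, e w ∈ W) : Nat.card W ≡ Nat.card (W ⊓ fixSub e : Subgroup V) [MOD l] := by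
  classical
  haveI := Fintype.ofFinite W
  let f : Function.End W := fun w => ⟨e w, hW w w.2⟩
  have hpow : ∀ (n : ℕ) (w : W), (((f ^ n) w : W) : V) = (e ^ n) w := by
    intro n
    induction n with
    | zero => intro w; rfl
    | succ n ih =>
      intro w
      rw [pow_succ', pow_succ', MulAut.mul_apply]
      show e ((f ^ n) w : V) = _
      rw [ih]
  have hf : f ^ l ^ 1 = 1 := by
    funext w
    apply Subtype.ext
    rw [pow_one, hpow, he]
    rfl
  have h := Equiv.Perm.card_fixedPoints_modEq hf
  rw [← Nat.card_eq_fintype_card, ← Nat.card_eq_fintype_card] at h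
  refine h.trans (congrArg (· % l) (Nat.card_congr ?_))
  exact { toFun := fun w => ⟨w.1.1, w.1.2, congrArg Subtype.val (w.2 : f w.1 = w.1)⟩
          invFun := fun v => ⟨⟨v.1, v.2.1⟩, Subtype.ext (v.2.2 : e v.1 = v.1)⟩
          left_inv := fun w => rfl
          right_inv := fun v => rfl }

variable (hV : ∀ v : V, v ^ s = 1) (hb : Nat.card V = s ^ b) {l : ℕ} (hl : IsPrim s b l)
  {e : MulAut V} (hel : e ^ l = 1) (he1 : e ≠ 1)

include hV hb hl hel he1

theorem fix_eq_bot : fixSub e = ⊥ := by
  haveI := Fact.mk hl.1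
  obtain ⟨f, hf⟩ := exists_card_pow hV (fixSub e)
  have h := card_modEq_fix (W := ⊤) hel (fun w _ => Subgroup.mem_top _)
  rw [top_inf_eq, Subgroup.card_top, hb, hf] at h
  have hle : f ≤ b := by
    have := Nat.le_of_dvd (by rw [hb]; exact Nat.pow_pos hs.out.pos) (fixSub e).card_subgroup_dvd_card
    rw [hf, hb] at this
    exact (Nat.pow_le_pow_iff_right hs.out.one_lt).1 this
  rcases hl.exp_eq hs.out.two_le hle h with h0 | h0
  · exact Subgroup.card_eq_one.1 (by rw [hf, h0, pow_zero])
  · exfalso
    refine he1 (MulEquiv.ext fun v => ?_)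
    have htop : fixSub e = ⊤ := Subgroup.card_eq_iff_eq_top (fixSub e) |>.1 (by rw [hf, hb, h0])
    exact mem_fixSub.1 (htop ▸ Subgroup.mem_top v)

theorem invariant_cases (W : Subgroup V) (hW : ∀ w ∈ W, e w ∈ W) : W = ⊥ ∨ W = ⊤ := by
  haveI := Fact.mk hl.1
  obtain ⟨u, hu⟩ := exists_card_pow hV W
  have h := card_modEq_fix hel hW
  rw [fix_eq_bot hV hb hl hel he1, inf_bot_eq, Subgroup.card_bot, hu] at h
  have hle : u ≤ b := by
    have := Nat.le_of_dvd (by rw [hb]; exact Nat.pow_pos hs.out.pos) W.card_subgroup_dvd_card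
    rw [hu, hb] at this
    exact (Nat.pow_le_pow_iff_right hs.out.one_lt).1 this
  have h' : s ^ b ≡ s ^ (b - u) [MOD l] := by
    have := h.mul_right (s ^ (b - u))
    rwa [← pow_add, Nat.add_sub_cancel' hle, one_mul] at this
  rcases hl.exp_eq hs.out.two_le (Nat.sub_le b u) h' with h0 | h0
  · exact Or.inr (W.card_eq_iff_eq_top.1 (by rw [hu, hb, show u = b by omega]))
  · exact Or.inl (Subgroup.card_eq_one.1 (by rw [hu, show u = 0 by omega, pow_zero]))

/-- The group of operators commuting with `e` is cyclic. -/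
theorem isCyclic_of_commute (C : Subgroup (MulAut V)) (hC : ∀ c ∈ C, Commute c e) : IsCyclic C := by
  classical
  rcases subsingleton_or_nontrivial V with hsub | hnt
  · exact absurd (MulEquiv.ext fun v => Subsingleton.elim _ _) he1
  let ea : AddMonoid.End (Additive V) := MonoidHom.toAdditive e.toMonoidHom
  let E : Subring (AddMonoid.End (Additive V)) := Subring.centralizer {ea}
  haveI : Finite (AddMonoid.End (Additive V)) :=
    Finite.of_injective (fun f => (f : Additive V → Additive V)) DFunLike.coe_injective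
  have hinj : ∀ f : E, f ≠ 0 → Function.Injective (f.1 : Additive V → Additive V) := by
    intro f hf
    rw [injective_iff_map_eq_zero]
    intro v hv
    let W : Subgroup V :=
      { carrier := {w | f.1 (Additive.ofMul w) = 0}
        one_mem' := map_zero f.1
        mul_mem' := fun {a c} (ha : f.1 _ = 0) (hc : f.1 _ = 0) => by
          show f.1 (Additive.ofMul (a * c)) = 0
          rw [ofMul_mul, map_add, ha, hc, add_zero]
        inv_mem' := fun {a} (ha : f.1 _ = 0) => by
          show f.1 (Additive.ofMul a⁻¹) = 0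
          rw [ofMul_inv, map_neg, ha, neg_zero] }
    have hWe : ∀ w ∈ W, e w ∈ W := by
      intro w (hw : f.1 _ = 0)
      have h1 : ea * f.1 = f.1 * ea := f.2 ea rfl
      have h2 := DFunLike.congr_fun h1 (Additive.ofMul w)
      show f.1 (ea (Additive.ofMul w)) = 0
      rw [show f.1 (ea (Additive.ofMul w)) = (f.1 * ea) (Additive.ofMul w) from rfl, ← h2]
      show ea (f.1 (Additive.ofMul w)) = 0
      rw [hw, map_zero]
    rcases invariant_cases hV hb hl hel he1 W hWe with hW | hW
    · have : v.toMul ∈ W := hv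
      rw [hW, Subgroup.mem_bot] at this
      exact this
    · exfalso
      refine hf (Subtype.ext (AddMonoidHom.ext fun w => ?_))
      exact (show w.toMul ∈ W by rw [hW]; exact Subgroup.mem_top _)
  haveI : Nontrivial E := by
    refine ⟨⟨0, 1, fun h => ?_⟩⟩
    obtain ⟨v, hv⟩ := exists_ne (1 : V)
    exact hv (DFunLike.congr_fun (congrArg Subtype.val h) (Additive.ofMul v)).symm
  haveI : NoZeroDivisors E := ⟨fun {a c} h => by
    by_contra hcon
    push Not at hcon
    refine hcon.2 (Subtype.ext (AddMonoidHom.ext fun w => hinj a hcon.1 ?_))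
    show (a.1 * c.1) w = a.1 0
    rw [map_zero]
    exact DFunLike.congr_fun (congrArg Subtype.val h) w⟩
  haveI : IsDomain E := NoZeroDivisors.to_isDomain _
  letI : CommRing E := { (inferInstance : Ring E) with
    mul_comm := (Finite.isDomain_to_isField E).mul_comm }
  let φ : C →* E :=
    { toFun := fun c => ⟨MonoidHom.toAdditive (c.1 : MulAut V).toMonoidHom, by
        intro g hg
        rw [Set.mem_singleton_iff] at hg
        subst hg
        exact AddMonoidHom.ext fun w =>
          congrArg Additive.ofMul (DFunLike.congr_fun (hC c c.2).symm.eq w.toMul)⟩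
      map_one' := rfl
      map_mul' := fun _ _ => rfl }
  exact isCyclic_of_subgroup_isDomain φ fun a c h => Subtype.ext (MulEquiv.ext fun v =>
    Additive.ofMul.injective (DFunLike.congr_fun (congrArg Subtype.val h) (Additive.ofMul v)))

end CfsgLib.PalfyThree
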