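import Mathlib
import Cfsg.Agent.PalfyThree.Centralizer
import Cfsg.Agent.PQFpf.HallHigmanPrime

/-!
An element of primitive prime power order moving a normal `t`-subgroup of a linear group is small.
-/

set_option autoImplicit false
set_option linter.style.haveILetI false
set_option linter.unusedSectionVars false

namespace CfsgLib.PalfyThree

open Module
open CfsgLib.PQFpf (PrimeOp FormRep exists_weight IsWeight eq_one_of_weights)
open CfsgLib.S3Fpf (autLin autLin_injective autLin_apply)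
open scoped commutatorElement TensorProduct

universe u

/-- The representation over an algebraically closed field, with its dimension. -/
theorem exists_linear_dim {S : Type*} [Group S] {V : Type u} [CommGroup V] [Finite V] {s b : ℕ}
    [Fact s.Prime] (hV : ∀ v : V, v ^ s = 1) (hb : Nat.card V = s ^ b) (ρ : S →* MulAut V)
    (hρ : Function.Injective ρ) :
    ∃ (k : Type) (_ : Field k) (_ : IsAlgClosed k) (_ : CharP k s) (W : Type u) (_ : AddCommGroup W)
      (_ : Module k W) (_ : FiniteDimensional k W) (π : S →* Module.End k W),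
      Function.Injective π ∧ finrank k W = b := by
  classical
  letI instM : Module (ZMod s) (Additive V) :=
    AddCommGroup.zmodModule (n := s) (G := Additive V) (fun v => by
      show Additive.ofMul (Additive.toMul v ^ s) = _
      rw [hV]
      rfl)
  have hM : Module (ZMod s) (Additive V) := inferInstance
  let k := AlgebraicClosure (ZMod s)
  let bc : Module.End (ZMod s) (Additive V) →* Module.End k (k ⊗[ZMod s] Additive V) :=
    (Module.End.baseChangeHom (ZMod s) k (Additive V)).toRingHom.toMonoidHom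
  have hbc : Function.Injective bc := LinearMap.baseChangeHom_injective (ZMod s) (Additive V) k
  haveI hchar : CharP k s := charP_of_injective_algebraMap (algebraMap (ZMod s) k).injective s
  haveI : Module.Finite (ZMod s) (Additive V) := Module.Finite.of_finite
  refine ⟨k, inferInstance, inferInstance, hchar, k ⊗[ZMod s] Additive V, inferInstance, inferInstance,
    inferInstance, (bc.comp (autLin s)).comp ρ, (hbc.comp (autLin_injective s)).comp hρ, ?_⟩
  refine (Module.finrank_baseChange (R := k) (S := ZMod s) (M' := Additive V)).trans ?_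
  have h := Module.natCard_eq_pow_finrank (K := ZMod s) (V := Additive V)
  rw [Nat.card_zmod, show Nat.card (Additive V) = Nat.card V from rfl, hb] at h
  exact (Nat.pow_right_injective (Fact.out : s.Prime).two_le h).symm

/-- A permutation of prime power order whose maximal proper power fixes only what it fixes. -/
theorem dvd_card_support {α : Type*} [Fintype α] [DecidableEq α] {σ : Equiv.Perm α} {l v : ℕ}
    (hl : l.Prime) (hσ : σ ^ l ^ (v + 1) = 1) (hfree : ∀ y, (σ ^ l ^ v) y = y → σ y = y) :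
    l ^ (v + 1) ∣ σ.support.card := by
  rw [← Equiv.Perm.sum_cycleType]
  refine Multiset.dvd_sum fun n hn => ?_
  rw [Equiv.Perm.cycleType_def, Multiset.mem_map] at hn
  obtain ⟨c, hc, rfl⟩ := hn
  have hc' : c ∈ σ.cycleFactorsFinset := hc
  have hcyc : c.IsCycle := (Equiv.Perm.mem_cycleFactorsFinset_iff.1 hc').1
  obtain ⟨y, hy⟩ := hcyc.nonempty_support
  have hcy : c = σ.cycleOf y := Equiv.Perm.cycle_is_cycleOf hy hc'
  have hσy : σ y ≠ y := Equiv.Perm.mem_support.1 (Equiv.Perm.mem_cycleFactorsFinset_support_le hc' hy)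
  show l ^ (v + 1) ∣ c.support.card
  rw [← hcyc.orderOf]
  have hdvd : orderOf c ∣ l ^ (v + 1) := by
    rw [hcyc.orderOf]
    have h1 : c.support.card ∈ σ.cycleType := by
      rw [Equiv.Perm.cycleType_def, Multiset.mem_map]; exact ⟨c, hc, rfl⟩
    exact (Equiv.Perm.dvd_of_mem_cycleType h1).trans (orderOf_dvd_of_pow_eq_one hσ)
  obtain ⟨i, hi, he⟩ := (Nat.dvd_prime_pow hl).1 hdvd
  rcases Nat.lt_or_ge i (v + 1) with hlt | hge
  · exfalso
    have h1 : c ^ l ^ v = 1 := orderOf_dvd_iff_pow_eq_one.1 (he ▸ pow_dvd_pow l (by omega))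
    refine hσy (hfree y ?_)
    rw [← Equiv.Perm.cycleOf_pow_apply_self, ← hcy, h1, Equiv.Perm.one_apply]
  · rw [he]; exact pow_dvd_pow l hge

/-- The bound. -/
theorem bound {K : Type*} [Group K] [Finite K] {V : Type u} [CommGroup V] [Finite V] {s b : ℕ}
    [hs : Fact s.Prime] (hV : ∀ v : V, v ^ s = 1) (hb : Nat.card V = s ^ b) (hb2 : 2 ≤ b)
    {l : ℕ} (hl : IsPrim s b l) (ρ : K →* MulAut V) (hρ : Function.Injective ρ) {g : K} {v : ℕ}
    (hg : orderOf g = l ^ (v + 1)) {t : ℕ} [ht : Fact t.Prime] (hts : t ≠ s) (htl : t ≠ l)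
    {S₀ : Subgroup K} (hS₀ : IsPGroup t S₀) (hgS : ∀ u ∈ S₀, g * u * g⁻¹ ∈ S₀)
    (hmove : ¬ ∀ u ∈ S₀, Commute (g ^ l ^ v) u) :
    ∃ m, 1 ≤ m ∧ t ^ m ≤ b ∧ l ^ (v + 1) ≤ t ^ m + 1 := by
  classical
  set x := g ^ l ^ v with hx
  have hls : l ≠ s := fun h => hl.not_dvd hs.out.two_le (by omega) (h ▸ dvd_rfl)
  have hl3 : 3 ≤ l := by have := hl.le_pred hs.out.two_le (by omega); omega
  have hxl : x ^ l = 1 := by rw [hx, ← pow_mul, ← pow_succ, ← hg, pow_orderOf_eq_one]
  have hx1 : x ≠ 1 := fun h => by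
    have h1 := orderOf_dvd_of_pow_eq_one h
    rw [hg, Nat.pow_dvd_pow_iff_le_right hl.1.one_lt] at h1
    omega
  have hρx : ρ x ≠ 1 := fun h => hx1 (hρ (h.trans (map_one ρ).symm))
  have hρxl : ρ x ^ l = 1 := by rw [← map_pow, hxl, map_one]
  -- the centraliser of `x` is abelian
  have hcomm : ∀ a c : K, Commute a x → Commute c x → Commute a c := by
    intro a c ha hc
    haveI := isCyclic_of_commute hV hb hl hρxl hρx (Subgroup.centralizer {ρ x}) fun d hd =>
      Subgroup.mem_centralizer_singleton_iff.1 hd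
    letI := IsCyclic.commGroup (α := Subgroup.centralizer {ρ x})
    have h := mul_comm (⟨ρ a, Subgroup.mem_centralizer_singleton_iff.2 (ha.map ρ).eq⟩ : Subgroup.centralizer {ρ x})
      ⟨ρ c, Subgroup.mem_centralizer_singleton_iff.2 (hc.map ρ).eq⟩
    exact hρ (by rw [map_mul, map_mul]; exact congrArg Subtype.val h)
  -- a minimal subgroup moved by `x`
  obtain ⟨S, hS⟩ : ∃ S : Subgroup K, Minimal (fun S : Subgroup K =>
      S ≤ S₀ ∧ (∀ u ∈ S, g * u * g⁻¹ ∈ S) ∧ ¬ ∀ u ∈ S, Commute x u) S :=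
    (Set.toFinite {S : Subgroup K | S ≤ S₀ ∧ (∀ u ∈ S, g * u * g⁻¹ ∈ S) ∧ ¬ ∀ u ∈ S, Commute x u}).exists_minimal
      ⟨S₀, le_rfl, hgS, hmove⟩
  obtain ⟨hSS₀, hgS', hmv⟩ := hS.1
  have hSt : IsPGroup t S := hS₀.to_le hSS₀
  have hgN : g ∈ Subgroup.normalizer (S : Set K) := by
    refine Subgroup.mem_normalizer_iff.2 fun u => ⟨hgS' u, fun hu => ?_⟩
    have hinj : Function.Injective (fun w : S => (⟨g * w * g⁻¹, hgS' w w.2⟩ : S)) := fun a c h => by
      simpa using congrArg Subtype.val h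
    obtain ⟨w, hw⟩ := (Finite.injective_iff_surjective.1 hinj) ⟨_, hu⟩
    have h1 := congrArg Subtype.val hw
    simp only [mul_left_inj, mul_right_inj] at h1
    rw [← h1]; exact w.2
  let β : MulAut S := S.normalizerMonoidHom ⟨g, hgN⟩
  let b₀ : MulAut S := β ^ l ^ v
  have hβ : ∀ u : S, ((β u : S) : K) = g * u * g⁻¹ := fun u => rfl
  have hb₀ : ∀ u : S, ((b₀ u : S) : K) = x * u * x⁻¹ := fun u => by
    show (((S.normalizerMonoidHom ⟨g, hgN⟩) ^ l ^ v) u : K) = _
    rw [← map_pow]
    rfl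
  have hbβ : ∀ u, b₀ (β u) = β (b₀ u) := fun u => by
    show (β ^ l ^ v * β) u = (β * β ^ l ^ v) u
    rw [← pow_succ, ← pow_succ']
  have hfix_iff : ∀ u : S, b₀ u = u ↔ Commute x (u : K) := fun u =>
    ⟨fun h => by
      have h1 := congrArg Subtype.val h
      rw [hb₀] at h1
      exact mul_inv_eq_iff_eq_mul.1 h1,
    fun h => Subtype.ext (by rw [hb₀, h.eq]; group)⟩
  have hmin : ∀ R : Subgroup S, R ≠ ⊤ → (∀ u ∈ R, β u ∈ R) → ∀ u ∈ R, b₀ u = u := by
    intro R hR hRi u hu
    by_contra hne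
    apply hR
    have hle : S ≤ R.map S.subtype := hS.2 (y := R.map S.subtype)
      ⟨(Subgroup.map_subtype_le R).trans hSS₀, by
        rintro _ ⟨w, hw, rfl⟩
        exact ⟨β w, hRi w hw, hβ w⟩, fun h => hne ((hfix_iff u).2 (h u ⟨u, hu, rfl⟩))⟩
      (Subgroup.map_subtype_le R)
    rw [eq_top_iff]
    intro w _
    obtain ⟨w', hw', he⟩ := hle w.2
    rwa [← Subtype.ext he]
  let D : PrimeOp S V s t l :=
    { ρ := ρ.comp S.subtype
      inj := hρ.comp S.subtype_injective
      b := b₀
      c := ρ x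
      hS := hSt
      hV := hV
      hb := by
        show (β ^ l ^ v) ^ l = 1
        rw [← pow_mul, ← pow_succ, ← map_pow,
          show (⟨g, hgN⟩ : Subgroup.normalizer (S : Set K)) ^ l ^ (v + 1) = 1 from
            Subtype.ext (by rw [Subgroup.coe_pow, ← hg, pow_orderOf_eq_one]; rfl), map_one]
      hc := hρxl
      hb1 := fun h => hmv fun u hu => (hfix_iff ⟨u, hu⟩).1 (by rw [h]; rfl)
      compat := fun u w => by
        show ρ x (ρ (u : K) w) = ρ ((b₀ u : S) : K) (ρ x w)
        rw [hb₀, ← MulAut.mul_apply, ← map_mul, ← MulAut.mul_apply, ← map_mul]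
        congr 2
        group
      fixFree := fun w hw => by
        have h := mem_fixSub.2 hw
        rwa [fix_eq_bot hV hb hl hρxl hρx, Subgroup.mem_bot] at h
      hr := hl.1
      hqr := htl
      hpq := hts.symm
      hpr := hls.symm }
  haveI : Group.IsNilpotent S := hSt.isNilpotent
  have hnab := D.exists_noncomm
  haveI : Nontrivial S := by
    obtain ⟨a, c, h⟩ := hnab
    exact ⟨a * c, c * a, h⟩
  have hchar : ∀ (R : Subgroup S) [R.Characteristic], ∀ u ∈ R, β u ∈ R := fun R hR u hu =>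
    (Subgroup.characteristic_iff_le_comap.1 hR) β hu
  -- the differences generate
  let Kc : Subgroup S := Subgroup.closure (Set.range fun u => u⁻¹ * b₀ u)
  have hKc : Kc = ⊤ := by
    by_contra hne
    have hinv : ∀ u ∈ Kc, β u ∈ Kc := by
      intro u hu
      induction hu using Subgroup.closure_induction with
      | mem w hw =>
        obtain ⟨a, rfl⟩ := hw
        exact Subgroup.subset_closure ⟨β a, by simp only [map_mul, map_inv, hbβ]⟩
      | one => rw [map_one]; exact one_mem _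
      | mul a c _ _ iha ihc => rw [map_mul]; exact mul_mem iha ihc
      | inv a _ iha => rw [map_inv]; exact inv_mem iha
    refine D.hb1 (MulEquiv.ext fun u => ?_)
    set w := u⁻¹ * b₀ u with hw
    have hwfix : b₀ w = w := hmin Kc hne hinv w (Subgroup.subset_closure ⟨u, rfl⟩)
    have hpow : ∀ i : ℕ, (b₀ ^ i) u = u * w ^ i := fun i => by
      induction i with
      | zero => simp
      | succ i ih =>
        rw [pow_succ', MulAut.mul_apply, ih, map_mul, map_pow, hwfix, pow_succ',
          show b₀ u = u * w by rw [hw, mul_inv_cancel_left], mul_assoc]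
    have hr1 := hpow l
    rw [show b₀ ^ l = 1 from D.hb, MulAut.one_apply, left_eq_mul] at hr1
    obtain ⟨j, hj⟩ := IsPGroup.iff_orderOf.1 hSt w
    have hw1 : w = 1 := orderOf_eq_one_iff.1 (Nat.eq_one_of_dvd_coprimes
      (((Nat.coprime_primes ht.out hl.1).2 htl).pow_left j) (dvd_of_eq hj) (orderOf_dvd_of_pow_eq_one hr1))
    rw [hw, inv_mul_eq_one] at hw1
    exact hw1.symm
  have hfixT : ∀ u ∈ commutator S, b₀ u = u :=
    hmin _ (Group.IsSolvable.commutator_lt_top_of_nontrivial (G := S)).ne (hchar _)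
  have hcen : ∀ a c : S, ⁅a, c⁆ ∈ Subgroup.center S := by
    intro a c
    refine Subgroup.mem_center_iff.2 fun d => ?_
    have ht' : ⁅a, c⁆ ∈ commutator S := Subgroup.commutator_mem_commutator (Subgroup.mem_top _) (Subgroup.mem_top _)
    have hle : Kc ≤ Subgroup.centralizer ({⁅a, c⁆} : Set S) := by
      rw [Subgroup.closure_le]
      rintro _ ⟨u, rfl⟩
      rw [SetLike.mem_coe, Subgroup.mem_centralizer_singleton_iff]
      have h2 := hfixT _ ((inferInstance : (commutator S).Normal).conj_mem _ ht' u)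
      rw [map_mul, map_mul, map_inv, hfixT _ ht', mul_inv_eq_iff_eq_mul] at h2
      show u⁻¹ * b₀ u * ⁅a, c⁆ = ⁅a, c⁆ * (u⁻¹ * b₀ u)
      rw [mul_assoc, h2]
      group
    exact Subgroup.mem_centralizer_singleton_iff.1 (hle (hKc ▸ Subgroup.mem_top d))
  set Z := Subgroup.center S with hZ
  have hZne : Z ≠ ⊤ := fun h => by
    obtain ⟨a, c, hac⟩ := hnab
    exact hac (Subgroup.mem_center_iff.1 (show c ∈ Z by rw [h]; exact Subgroup.mem_top c) a)
  have hfixZ : ∀ u ∈ Z, b₀ u = u := hmin _ hZne (hchar _)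
  have hβT : ∀ a c : S, β ⁅a, c⁆ = ⁅a, c⁆ := fun a c => by
    have h1 : Commute x ((⁅a, c⁆ : S) : K) := (hfix_iff _).1 (hfixT _
      (Subgroup.commutator_mem_commutator (Subgroup.mem_top _) (Subgroup.mem_top _)))
    refine Subtype.ext ?_
    rw [hβ, (hcomm g _ ((Commute.refl g).pow_right _) h1.symm).eq]
    group
  have hb₀T : ∀ a c : S, ⁅b₀ a, b₀ c⁆ = ⁅a, c⁆ := fun a c => by
    rw [← map_commutatorElement, hfixZ _ (hcen a c)]
  have hmulr : ∀ a c c' : S, ⁅a, c * c'⁆ = ⁅a, c⁆ * ⁅a, c'⁆ := by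
    intro a c c'
    have h := Subgroup.mem_center_iff.1 (hcen a c') c
    calc ⁅a, c * c'⁆ = ⁅a, c⁆ * (c * ⁅a, c'⁆) * c⁻¹ := by simp only [commutatorElement_def]; group
      _ = _ := by rw [h]; group
  have hcentral : ∀ u, b₀ u = u → u ∈ Z := by
    intro u hu
    have hle : Kc ≤ Subgroup.centralizer ({u} : Set S) := by
      rw [Subgroup.closure_le]
      rintro _ ⟨a, rfl⟩
      rw [SetLike.mem_coe, Subgroup.mem_centralizer_singleton_iff]
      have h1 : ⁅u, a⁻¹ * b₀ a⁆ = 1 := by
        rw [hmulr, show ⁅u, b₀ a⁆ = ⁅u, a⁆ by conv_lhs => rw [← hu]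
                                              exact hb₀T u a, ← hmulr, inv_mul_cancel]
        simp
      exact (commutatorElement_eq_one_iff_mul_comm.1 h1).symm
    exact Subgroup.mem_center_iff.2 fun d => Subgroup.mem_centralizer_singleton_iff.1 (hle (hKc ▸ Subgroup.mem_top d))
  -- the representation
  obtain ⟨k, _, _, _, W, _, _, _, π, hπ, hdim⟩ := exists_linear_dim hV hb D.ρ D.inj
  have hcast : ∀ n, n ∣ Nat.card S → (n : k) ≠ 0 := fun n ⟨j, hj⟩ h => D.cast_ne_zero (k := k) (by
    rw [hj, Nat.cast_mul, h, zero_mul])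
  obtain ⟨θ, w₀, hw₀, hw00, a₀, c₀, hac₀⟩ : ∃ (θ : Z →* kˣ) (w : W), IsWeight (π.comp Z.subtype) θ w ∧ w ≠ 0 ∧
      ∃ a c : S, θ ⟨⁅a, c⁆, hcen a c⟩ ≠ 1 := by
    by_contra! h
    obtain ⟨a, c, hac⟩ := hnab
    refine hac (commutatorElement_eq_one_iff_mul_comm.1 (hπ ?_))
    rw [map_one]
    exact eq_one_of_weights (π.comp Z.subtype)
      (fun a c => congrArg (π.comp Z.subtype) (Subtype.ext (Subgroup.mem_center_iff.1 c.2 a)))
      (hcast _ Z.card_subgroup_dvd_card) ⟨⁅a, c⁆, hcen a c⟩ fun χ w hw hw0 => h χ w hw hw0 a c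
  let cm : S → S → kˣ := fun a c => θ ⟨⁅a, c⁆, hcen a c⟩
  have hcmr : ∀ a c c', cm a (c * c') = cm a c * cm a c' := fun a c c' => by
    show θ _ = θ _ * θ _
    rw [← map_mul]
    exact congrArg θ (Subtype.ext (hmulr a c c'))
  have hswap : ∀ a c, cm c a = (cm a c)⁻¹ := fun a c => by
    show θ _ = (θ _)⁻¹
    rw [← map_inv]
    exact congrArg θ (Subtype.ext (commutatorElement_inv a c).symm)
  have hcml : ∀ a a' c, cm (a * a') c = cm a c * cm a' c := fun a a' c => by
    rw [hswap c, hcmr, mul_inv, ← hswap, ← hswap]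
  let χ : S →* (S →* kˣ) := MonoidHom.mk' (fun a => MonoidHom.mk' (cm a) (hcmr a))
    fun a a' => MonoidHom.ext fun c => hcml a a' c
  have hker : χ.ker ≤ Z := by
    have hRi : ∀ u ∈ χ.ker, β u ∈ χ.ker := by
      intro u hu
      rw [MonoidHom.mem_ker] at hu ⊢
      refine MonoidHom.ext fun c => ?_
      obtain ⟨c, rfl⟩ := β.surjective c
      show θ _ = 1
      rw [show (⟨⁅β u, β c⁆, hcen _ _⟩ : Z) = ⟨⁅u, c⁆, hcen u c⟩ from
        Subtype.ext ((map_commutatorElement β u c).symm.trans (hβT u c))]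
      exact DFunLike.congr_fun hu c
    have hne : χ.ker ≠ ⊤ := fun h => hac₀ (DFunLike.congr_fun
      (MonoidHom.mem_ker.1 (h ▸ Subgroup.mem_top a₀ : a₀ ∈ χ.ker)) c₀)
    exact fun u hu => hcentral u (hmin _ hne hRi u hu)
  have hleft : ∀ z ∈ Z, ∀ c, cm z c = 1 := fun z hz c => by
    show θ _ = 1
    rw [show (⟨⁅z, c⁆, hcen z c⟩ : Z) = 1 from Subtype.ext
      (commutatorElement_eq_one_iff_mul_comm.2 (Subgroup.mem_center_iff.1 hz c).symm), map_one]
  let U : Submodule k W :=
    { carrier := {w | IsWeight (π.comp Z.subtype) θ w}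
      zero_mem' := fun z => by rw [map_zero, smul_zero]
      add_mem' := fun {a c} ha hc z => by rw [map_add, ha, hc, smul_add]
      smul_mem' := fun c w hw z => by rw [map_smul, hw, smul_comm] }
  have hUπ : ∀ a : S, ∀ w ∈ U, π a w ∈ U := fun a w hw z => by
    show π (z : S) (π a w) = _
    rw [← Module.End.mul_apply, ← map_mul, ← Subgroup.mem_center_iff.1 z.2 a, map_mul, Module.End.mul_apply,
      show π (z : S) w = ((θ z : kˣ) : k) • w from hw z, map_smul]
  haveI : Nontrivial U := ⟨⟨w₀, hw₀⟩, 0, fun h => hw00 (congrArg Subtype.val h)⟩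
  let πU : S →* Module.End k U :=
    { toFun := fun a => (π a).restrict (hUπ a)
      map_one' := LinearMap.ext fun w => Subtype.ext (by
        show π (1 : S) (w : W) = w
        rw [map_one]; rfl)
      map_mul' := fun a c => LinearMap.ext fun w => Subtype.ext (by
        show π (a * c) (w : W) = π a (π c w)
        rw [map_mul]; rfl) }
  let F : FormRep πU Z :=
    { χ := χ
      scalar := fun z hz => ⟨_, LinearMap.ext fun w => Subtype.ext (w.2 ⟨z, hz⟩)⟩
      rel := fun a c => LinearMap.ext fun w => Subtype.ext (by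
        show π a (π c (w : W)) = ((cm a c : kˣ) : k) • π c (π a (w : W))
        have h2 : a * c = ⁅a, c⁆ * (c * a) := by simp only [commutatorElement_def]; group
        rw [← Module.End.mul_apply, ← map_mul, h2, map_mul, Module.End.mul_apply, map_mul, Module.End.mul_apply]
        exact (hUπ c _ (hUπ a _ w.2)) ⟨_, hcen a c⟩)
      left_rad := hleft
      right_rad := fun a ha => hker (MonoidHom.mem_ker.2 (MonoidHom.ext fun c => by
        show cm a c = 1
        rw [hswap c, show cm c a = 1 from ha c, inv_one]))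
      rad_right := fun z hz c => by
        show cm c z = 1
        rw [hswap z, hleft z hz, inv_one] }
  haveI := Fintype.ofFinite (S ⧸ Z)
  have hm : (Fintype.card (S ⧸ Z) : k) ≠ 0 := by
    rw [← Nat.card_eq_fintype_card]; exact hcast _ Z.card_quotient_dvd_card
  have hsq := F.finrank_sq hm
  obtain ⟨d, hd⟩ := CfsgLib.PQFpf.card_square F hm
  have hU : finrank k U ≤ b := hdim ▸ Submodule.finrank_le U
  have hc1 : 1 ≤ finrank k F.comm := Nat.pos_of_ne_zero F.comm_ne_zero
  have hdb : d ≤ b := by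
    have h1 : d * d ≤ b * b := calc
      d * d = Fintype.card (S ⧸ Z) * 1 := by rw [hd, mul_one]
      _ ≤ Fintype.card (S ⧸ Z) * finrank k F.comm := Nat.mul_le_mul_left _ hc1
      _ = finrank k U * finrank k U := hsq.symm
      _ ≤ b * b := Nat.mul_le_mul hU hU
    exact Nat.mul_self_le_mul_self_iff.1 h1
  have hd1 : d ≠ 1 := by
    rintro rfl
    apply hZne
    rw [← Subgroup.index_eq_one, Subgroup.index_eq_card, Nat.card_eq_fintype_card, hd]
  obtain ⟨n, hn⟩ := (hSt.to_quotient Z).exists_card_eq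
  rw [Nat.card_eq_fintype_card, hd] at hn
  obtain ⟨m, -, hdm⟩ := (Nat.dvd_prime_pow ht.out).1 (hn ▸ Dvd.intro d rfl : d ∣ t ^ n)
  have hm1 : 1 ≤ m := Nat.one_le_iff_ne_zero.2 fun h => hd1 (by rw [hdm, h, pow_zero])
  refine ⟨m, hm1, hdm ▸ hdb, hdm ▸ ?_⟩
  -- the action on the quotient
  have hZmap : Z.map (β : S →* S) = Z := Subgroup.characteristic_iff_map_eq.1 inferInstance β
  let βq : MulAut (S ⧸ Z) := QuotientGroup.congr Z Z β hZmap
  have hβq : ∀ (i : ℕ) (u : S), (βq ^ i) (u : S ⧸ Z) = (((β ^ i) u : S) : S ⧸ Z) := fun i => by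
    induction i with
    | zero => intro u; rfl
    | succ i ih => intro u; rw [pow_succ', pow_succ', MulAut.mul_apply, ih]; rfl
  let σ : Equiv.Perm (S ⧸ Z) := MulAut.toPerm (S ⧸ Z) βq
  have hσ : ∀ (i : ℕ) (y : S ⧸ Z), (σ ^ i) y = (βq ^ i) y := fun i y => by
    rw [← map_pow]; rfl
  have hσ1 : σ ^ l ^ (v + 1) = 1 := Equiv.ext fun y => by
    induction y using QuotientGroup.induction_on with
    | _ u =>
      rw [hσ, hβq, pow_succ, pow_mul, show (β ^ l ^ v) ^ l = 1 from D.hb]
      rfl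
  have hfree : ∀ y, (σ ^ l ^ v) y = y → y = 1 := fun y hy => by
    induction y using QuotientGroup.induction_on with
    | _ u =>
      rw [hσ, hβq] at hy
      have hw : u⁻¹ * b₀ u ∈ Z := QuotientGroup.eq.1 hy.symm
      have hwfix := hfixZ _ hw
      have hpow : ∀ i : ℕ, (b₀ ^ i) u = u * (u⁻¹ * b₀ u) ^ i := fun i => by
        induction i with
        | zero => simp
        | succ i ih =>
          rw [pow_succ', MulAut.mul_apply, ih, map_mul, map_pow, hwfix, pow_succ', ← mul_assoc u,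
            mul_inv_cancel_left]
      have hr1 := hpow l
      rw [show b₀ ^ l = 1 from D.hb, MulAut.one_apply, left_eq_mul] at hr1
      obtain ⟨j, hj⟩ := IsPGroup.iff_orderOf.1 hSt (u⁻¹ * b₀ u)
      have hw1 : u⁻¹ * b₀ u = 1 := orderOf_eq_one_iff.1 (Nat.eq_one_of_dvd_coprimes
        (((Nat.coprime_primes ht.out hl.1).2 htl).pow_left j) (dvd_of_eq hj) (orderOf_dvd_of_pow_eq_one hr1))
      rw [inv_mul_eq_one] at hw1
      exact (QuotientGroup.eq_one_iff u).2 (hcentral u hw1.symm)
  have hsupp : σ.support = Finset.univ.erase 1 := by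
    ext y
    simp only [Equiv.Perm.mem_support, Finset.mem_erase, Finset.mem_univ, and_true]
    constructor
    · rintro h rfl
      exact h (map_one βq)
    · intro hy1 hfix
      exact hy1 (hfree y (Equiv.Perm.pow_apply_eq_self_of_apply_eq_self hfix _))
  have hdvd := dvd_card_support hl.1 hσ1 fun y hy => by
    rw [hfree y hy]
    exact map_one βq
  rw [hsupp, Finset.card_erase_of_mem (Finset.mem_univ _), Finset.card_univ, hd,
    show d * d - 1 = (d + 1) * (d - 1) by rw [← Nat.mul_self_sub_mul_self_eq, mul_one]] at hdvd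
  have hd0 : d ≠ 0 := by rw [hdm]; exact (Nat.pow_pos ht.out.pos).ne'
  by_cases hlp : l ∣ d + 1
  · have hnot : ¬ l ∣ d - 1 := fun h => by
      have h2 := Nat.le_of_dvd (by omega) (Nat.dvd_sub hlp h)
      omega
    exact Nat.le_of_dvd (by omega)
      ((((hl.1.coprime_iff_not_dvd).2 hnot).pow_left _).dvd_of_dvd_mul_right hdvd)
  · have h3 := Nat.le_of_dvd (by omega)
      ((((hl.1.coprime_iff_not_dvd).2 hlp).pow_left _).dvd_of_dvd_mul_left hdvd)
    omega

end CfsgLib.PalfyThree
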