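import Mathlib
import Cfsg.Agent.PalfyThree.Over
import Cfsg.Agent.Char.DegreesPrime
import Cfsg.Agent.Char.PPrimeKernel
import Cfsg.Agent.Solvable.Basics

/-!
A prime dividing a degree of a solvable group but no degree of a quotient by a minimal normal subgroup.
-/

set_option autoImplicit false
set_option linter.style.haveILetI false
set_option linter.unusedSectionVars false

namespace CfsgLib.PalfyThree

open CfsgLib.Char
open scoped commutatorElement

universe u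

variable {G : Type u} [Group G] [Finite G]

/-- A group with an abelian normal subgroup of index prime to `ℓ` has no degree divisible by `ℓ`. -/
theorem noDeg_of_abelian {A : Subgroup G} [A.Normal] (hA : ∀ x ∈ A, ∀ y ∈ A, x * y = y * x) {ℓ : ℕ}
    (hi : ¬ ℓ ∣ A.index) : NoDeg G ℓ := by
  intro χ hχ d hd hℓ
  obtain ⟨n, ρ, hρ, rfl⟩ := hχ
  haveI := hρ
  have h := finrank_dvd_index_of_abelian ρ A hA
  rw [ρ.char_one, Nat.cast_inj] at hd
  exact hi (hℓ.trans (hd ▸ h))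

/-- An element of order prime to the index lies in a normal subgroup. -/
theorem mem_of_coprime_index {A : Subgroup G} [A.Normal] {ℓ : ℕ} [Fact ℓ.Prime] (hA : ¬ ℓ ∣ A.index)
    {x : G} {k : ℕ} (hx : x ^ ℓ ^ k = 1) : x ∈ A := by
  rw [← QuotientGroup.eq_one_iff, ← orderOf_eq_one_iff]
  refine Nat.eq_one_of_dvd_coprimes
    (((Fact.out : ℓ.Prime).coprime_iff_not_dvd.2 hA).pow_left k) (orderOf_dvd_of_pow_eq_one ?_)
    (A.index_eq_card ▸ orderOf_dvd_natCard (x : G ⧸ A))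
  rw [← QuotientGroup.mk_pow, hx, QuotientGroup.mk_one]

/-- A character over a character that is nontrivial on `N` is nontrivial on `N`. -/
theorem nontrivial_of_constituent [Fintype G] {X : Subgroup G} [Fintype X] {χ : G → ℂ}
    (hχ : Cfsg.IsIrrCharacter G χ) {φ : X → ℂ} (hφ : Cfsg.IsIrrCharacter X φ)
    (hc : Cfsg.classInner (fun n : X => χ n) φ ≠ 0) (N : Subgroup G)
    (hN : ∃ n : X, (n : G) ∈ N ∧ φ n ≠ φ 1) : ∃ n ∈ N, χ n ≠ χ 1 := by
  obtain ⟨n, hn, hne⟩ := hN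
  exact ⟨n, hn, fun h => hne (PPrimeKernel.constituent_apply_eq
    (IsCharacter.restrict (IsIrrCharacter.isCharacter hχ) X) hφ hc
    (by simpa only [OneMemClass.coe_one] using h))⟩

/-- The preimage of the normal abelian Sylow subgroup of `G ⧸ N`. -/
theorem exists_preimage [Group.IsSolvable G] (N : Subgroup G) [N.Normal] {ℓ : ℕ} [Fact ℓ.Prime]
    (hℓ : NoDeg (G ⧸ N) ℓ) :
    ∃ X : Subgroup G, X.Normal ∧ N ≤ X ∧ ¬ ℓ ∣ X.index ∧ (∃ k, N.relIndex X = ℓ ^ k) ∧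
      ⁅X, X⁆ ≤ N := by
  obtain ⟨P, hPn, hPc, hPp, hPi⟩ := hℓ.exists_sylow
  obtain ⟨X, hX⟩ : ∃ X, P.comap (QuotientGroup.mk' N) = X := ⟨_, rfl⟩
  refine ⟨X, hX ▸ hPn.comap _, ?_, ?_, ?_, ?_⟩
  · intro x hx
    rw [← hX, Subgroup.mem_comap, QuotientGroup.mk'_apply, (QuotientGroup.eq_one_iff x).2 hx]
    exact one_mem P
  · rwa [← hX, Subgroup.index_comap_of_surjective _ (QuotientGroup.mk'_surjective N)]
  · obtain ⟨k, hk⟩ := IsPGroup.iff_card.1 hPp
    refine ⟨k, ?_⟩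
    rw [← hk, ← Subgroup.map_comap_eq_self_of_surjective (QuotientGroup.mk'_surjective N) P, hX,
      ← Subgroup.relIndex_ker, QuotientGroup.ker_mk']
  · rw [Subgroup.commutator_le]
    intro x hx y hy
    rw [← hX, Subgroup.mem_comap, QuotientGroup.mk'_apply] at hx hy
    rw [← QuotientGroup.eq_one_iff]
    show QuotientGroup.mk' N ⁅x, y⁆ = 1
    rw [map_commutatorElement, commutatorElement_eq_one_iff_mul_comm]
    exact hPc _ hx _ hy

/-- If `ℓ` drops in `G ⧸ N` then the preimage has derived group `N`. -/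
theorem commutator_preimage {N X : Subgroup G} [N.Normal] [X.Normal]
    (hmin : ∀ M : Subgroup G, M.Normal → M ≤ N → M = ⊥ ∨ M = N) {ℓ : ℕ} (hG : ¬ NoDeg G ℓ)
    (hi : ¬ ℓ ∣ X.index) (hcX : ⁅X, X⁆ ≤ N) : ⁅X, X⁆ = N := by
  refine (hmin _ inferInstance hcX).resolve_left fun h => hG (noDeg_of_abelian (fun x hx y hy => ?_) hi)
  rw [← commutatorElement_eq_one_iff_mul_comm, ← Subgroup.mem_bot, ← h]
  exact Subgroup.commutator_mem_commutator hx hy

/-- Characters nontrivial on `N` have degree divisible by the dropped prime. -/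
theorem dvd_of_nontrivial [Fintype G] [Group.IsSolvable G] (N : Subgroup G) [N.Normal]
    (hmin : ∀ M : Subgroup G, M.Normal → M ≤ N → M = ⊥ ∨ M = N)
    (hab : ∀ x ∈ N, ∀ y ∈ N, x * y = y * x) {ℓ : ℕ} [Fact ℓ.Prime] (hℓ : NoDeg (G ⧸ N) ℓ)
    (hG : ¬ NoDeg G ℓ) {χ : G → ℂ} (hχ : Cfsg.IsIrrCharacter G χ) {n : G} (hn : n ∈ N)
    (hne : χ n ≠ χ 1) {d : ℕ} (hd : χ 1 = d) : ℓ ∣ d := by
  classical
  by_contra hnd
  have hℓp : ℓ.Prime := Fact.out
  obtain ⟨X, hXn, hNX, hXi, ⟨k, hk⟩, hcX⟩ := exists_preimage N hℓ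
  haveI := hXn
  have hcom := commutator_preimage hmin hG hXi hcX
  haveI := Fintype.ofFinite X
  obtain ⟨θ, hθ, hθc⟩ := exists_constituent_restrict (N := X) hχ
  obtain ⟨m, -, hm⟩ := IsIrrCharacter.exists_degree hθ
  have hm1 : m = 1 := by
    have h1 : ¬ ℓ ∣ m := fun h => hnd (h.trans (TwoDegrees.degree_dvd hχ hθ hθc hd hm))
    have h2 : m ∣ ℓ ^ k := by
      rw [← hk]
      obtain ⟨e, ρ, hρ, hθe⟩ := id hθ
      haveI := hρ
      have h3 := finrank_dvd_index_of_abelian ρ (N.subgroupOf X) fun a ha b hb =>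
        Subtype.ext (hab _ (Subgroup.mem_subgroupOf.1 ha) _ (Subgroup.mem_subgroupOf.1 hb))
      rw [← hθe, ρ.char_one, Nat.cast_inj] at hm
      exact hm ▸ h3
    obtain ⟨j, -, rfl⟩ := (Nat.dvd_prime_pow hℓp).1 h2
    rcases Nat.eq_zero_or_pos j with rfl | hj
    · exact pow_zero ℓ
    · exact absurd (dvd_pow_self ℓ hj.ne') h1
  obtain ⟨lam, rfl⟩ := IsCharacter.exists_hom (IsIrrCharacter.isCharacter hθ)
    (by rw [hm, hm1, Nat.cast_one])
  have htriv : ∀ x : X, (x : G) ∈ N → lam x = 1 := by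
    intro x hx
    have h1 : x ∈ commutator X := by
      rw [← hcom, ← Subgroup.map_subtype_commutator] at hx
      obtain ⟨y, hy, hyx⟩ := hx
      rwa [← Subtype.ext hyx]
    exact Abelianization.commutator_subset_ker lam h1
  refine hne ?_
  have hr := restrict_eq_smul_sum hχ hθ hθc
  have h1 := congrFun hr ⟨n, hNX hn⟩
  have h2 := congrFun hr 1
  simp only [OneMemClass.coe_one, Pi.smul_apply, Finset.sum_apply] at h1 h2
  rw [h1, h2]
  congr 1
  refine Finset.sum_congr rfl fun ψ hψ => ?_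
  obtain ⟨g, rfl⟩ := mem_conjOrbit.1 hψ
  rw [conjOn_apply, conjOn_apply_one]
  rw [htriv _ (‹N.Normal›.conj_mem n hn g), map_one]

/-- The characters nontrivial on a normal subgroup exist. -/
theorem exists_nontrivial_character [Fintype G] (N : Subgroup G)
    (hab : ∀ x ∈ N, ∀ y ∈ N, x * y = y * x) (hN : N ≠ ⊥) :
    ∃ χ : G → ℂ, Cfsg.IsIrrCharacter G χ ∧ ∃ n ∈ N, χ n ≠ χ 1 := by
  classical
  haveI := Fintype.ofFinite N
  obtain ⟨n, hn, hn1⟩ := N.bot_or_exists_ne_one.resolve_left hN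
  obtain ⟨l, hl⟩ : ∃ l : N →* ℂˣ, l ⟨n, hn⟩ ≠ 1 := by
    by_contra! h
    exact hn1 (congrArg Subtype.val
      (DegreesPrime.separate N hab (a := ⟨n, hn⟩) (b := 1) fun l => (h l).trans (map_one l).symm))
  obtain ⟨f, hf, hfc⟩ := DegreesPrime.exists_over N (isIrrCharacter_ofHom l)
  exact ⟨f, hf, nontrivial_of_constituent hf (isIrrCharacter_ofHom l) hfc N
    ⟨⟨n, hn⟩, hn, fun h => hl (Units.ext (by rw [h, map_one]))⟩⟩

/-- Two minimal normal subgroups cannot drop the same prime. -/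
theorem noDeg_of_two_drops [Group.IsSolvable G] {N M : Subgroup G} [N.Normal] [M.Normal]
    (hNM : N ⊓ M = ⊥) {ℓ : ℕ} [Fact ℓ.Prime] (hN : NoDeg (G ⧸ N) ℓ) (hM : NoDeg (G ⧸ M) ℓ) :
    NoDeg G ℓ := by
  obtain ⟨X, hXn, -, hXi, -, hXc⟩ := exists_preimage N hN
  obtain ⟨Y, hYn, -, hYi, -, hYc⟩ := exists_preimage M hM
  haveI := hXn
  haveI := hYn
  obtain ⟨P⟩ : Nonempty (Sylow ℓ G) := inferInstance
  have hpow : ∀ x ∈ (P : Subgroup G), ∃ k : ℕ, x ^ ℓ ^ k = 1 := fun x hx => by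
    obtain ⟨k, hk⟩ := P.2 ⟨x, hx⟩
    exact ⟨k, by simpa using congrArg Subtype.val hk⟩
  have hcomm : ∀ x : G, (∃ k : ℕ, x ^ ℓ ^ k = 1) → ∀ y : G, (∃ k : ℕ, y ^ ℓ ^ k = 1) →
      x * y = y * x := by
    rintro x ⟨k, hx⟩ y ⟨j, hy⟩
    rw [← commutatorElement_eq_one_iff_mul_comm, ← Subgroup.mem_bot, ← hNM]
    exact ⟨hXc (Subgroup.commutator_mem_commutator (mem_of_coprime_index hXi hx)
        (mem_of_coprime_index hXi hy)),
      hYc (Subgroup.commutator_mem_commutator (mem_of_coprime_index hYi hx)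
        (mem_of_coprime_index hYi hy))⟩
  haveI : (P : Subgroup G).Normal := ⟨fun x hx g => by
    obtain ⟨k, hk⟩ := hpow x hx
    have hz : (g * x * g⁻¹) ^ ℓ ^ k = 1 := by rw [conj_pow, hk, mul_one, mul_inv_cancel]
    have hle : Subgroup.zpowers (g * x * g⁻¹) ≤
        Subgroup.normalizer ((P : Subgroup G) : Set G) := by
      rw [Subgroup.zpowers_le, Subgroup.mem_normalizer_iff]
      intro y
      constructor
      · intro hy
        rwa [hcomm _ ⟨k, hz⟩ y (hpow y hy), mul_inv_cancel_right]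
      · intro hy
        have h1 := hcomm _ ⟨k, hz⟩ _ (hpow _ hy)
        have h2 : (g * x * g⁻¹) * y * (g * x * g⁻¹)⁻¹ = y := by
          have h3 := mul_left_cancel (a := g * x * g⁻¹)
            (b := g * x * g⁻¹ * y * (g * x * g⁻¹)⁻¹) (c := y) (by rw [h1]; group)
          exact h3
        rwa [h2] at hy
    have hZ : IsPGroup ℓ (Subgroup.zpowers (g * x * g⁻¹)) := by
      obtain ⟨i, -, hi⟩ := (Nat.dvd_prime_pow (Fact.out : ℓ.Prime)).1 (orderOf_dvd_of_pow_eq_one hz)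
      exact IsPGroup.of_card (n := i) (by rw [Nat.card_zpowers, hi])
    have h := P.3 (hZ.to_sup_of_normal_right' P.2 hle) le_sup_right
    exact h ▸ Subgroup.mem_sup_left (Subgroup.mem_zpowers _)⟩
  exact noDeg_of_abelian (A := (P : Subgroup G))
    (fun x hx y hy => hcomm x (hpow x hx) y (hpow y hy)) P.not_dvd_index

/-- Two minimal normal subgroups dropping different primes give a degree divisible by both. -/
theorem not_noDeg_mul_of_two_drops [Fintype G] [Group.IsSolvable G] {N M : Subgroup G} [N.Normal]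
    [M.Normal] (hN : ∀ K : Subgroup G, K.Normal → K ≤ N → K = ⊥ ∨ K = N)
    (hM : ∀ K : Subgroup G, K.Normal → K ≤ M → K = ⊥ ∨ K = M) (hN1 : N ≠ ⊥) (hM1 : M ≠ ⊥)
    (hNc : ∀ x ∈ N, ∀ y ∈ N, x * y = y * x) (hMc : ∀ x ∈ M, ∀ y ∈ M, x * y = y * x)
    (hNM : N ⊓ M = ⊥) {a b : ℕ} [Fact a.Prime] [Fact b.Prime] (hab : a ≠ b)
    (ha : NoDeg (G ⧸ N) a) (hb : NoDeg (G ⧸ M) b) (haG : ¬ NoDeg G a) (hbG : ¬ NoDeg G b) :
    ¬ NoDeg G (a * b) := by
  classical
  intro hno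
  have hcomm : ∀ x ∈ N, ∀ y ∈ M, x * y = y * x := fun x hx y hy =>
    Subgroup.commute_of_normal_of_disjoint N M inferInstance inferInstance
      (disjoint_iff.2 hNM) x y hx hy
  have hX : ∀ x ∈ N ⊔ M, ∀ y ∈ N ⊔ M, x * y = y * x := by
    have h : N ⊔ M ≤ Subgroup.centralizer ((N ⊔ M : Subgroup G) : Set G) := by
      refine sup_le ?_ ?_ <;>
      · rw [Subgroup.le_centralizer_iff, sup_le_iff]
        refine ⟨fun y hy => ?_, fun y hy => ?_⟩ <;> rw [Subgroup.mem_centralizer_iff] <;> intro x hx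
        all_goals first
          | exact hNc x hx y hy
          | exact hMc x hx y hy
          | exact hcomm x hx y hy
          | exact (hcomm y hy x hx).symm
    exact fun x hx y hy => (Subgroup.mem_centralizer_iff.1 (h hy) x hx)
  haveI := Fintype.ofFinite (N ⊔ M : Subgroup G)
  have hsep : ∀ {A : Subgroup G}, A ≤ N ⊔ M → A ≠ ⊥ →
      ∃ l : (N ⊔ M : Subgroup G) →* ℂˣ, ∃ n : (N ⊔ M : Subgroup G), (n : G) ∈ A ∧ l n ≠ 1 := by
    intro A hA hA1
    obtain ⟨n, hn, hn1⟩ := A.bot_or_exists_ne_one.resolve_left hA1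
    by_contra! h
    exact hn1 (congrArg Subtype.val (DegreesPrime.separate _ hX (a := ⟨n, hA hn⟩) (b := 1)
      fun l => (h l _ hn).trans (map_one l).symm))
  obtain ⟨l, hl1, hl2⟩ : ∃ l : (N ⊔ M : Subgroup G) →* ℂˣ,
      (∃ n : (N ⊔ M : Subgroup G), (n : G) ∈ N ∧ l n ≠ 1) ∧
        ∃ n : (N ⊔ M : Subgroup G), (n : G) ∈ M ∧ l n ≠ 1 := by
    obtain ⟨l1, n1, hn1, hl1⟩ := hsep le_sup_left hN1
    obtain ⟨l2, n2, hn2, hl2⟩ := hsep le_sup_right hM1
    by_cases h1 : ∃ n : (N ⊔ M : Subgroup G), (n : G) ∈ M ∧ l1 n ≠ 1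
    · exact ⟨l1, ⟨n1, hn1, hl1⟩, h1⟩
    by_cases h2 : ∃ n : (N ⊔ M : Subgroup G), (n : G) ∈ N ∧ l2 n ≠ 1
    · exact ⟨l2, h2, ⟨n2, hn2, hl2⟩⟩
    push Not at h1 h2
    exact ⟨l1 * l2, ⟨n1, hn1, by simpa [h2 n1 hn1] using hl1⟩,
      ⟨n2, hn2, by simpa [h1 n2 hn2] using hl2⟩⟩
  obtain ⟨f, hf, hfc⟩ := DegreesPrime.exists_over _ (isIrrCharacter_ofHom l)
  have hnt : ∀ A : Subgroup G, (∃ n : (N ⊔ M : Subgroup G), (n : G) ∈ A ∧ l n ≠ 1) →
      ∃ n ∈ A, f n ≠ f 1 := fun A ⟨n, hn, hne⟩ =>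
    nontrivial_of_constituent hf (isIrrCharacter_ofHom l) hfc A
      ⟨n, hn, fun h => hne (Units.ext (by rw [h, map_one]))⟩
  obtain ⟨n, hn, hfn⟩ := hnt N hl1
  obtain ⟨m, hm, hfm⟩ := hnt M hl2
  obtain ⟨d, -, hd⟩ := IsIrrCharacter.exists_degree hf
  exact hno f hf d hd (((Nat.coprime_primes Fact.out Fact.out).2 hab).mul_dvd_of_dvd_of_dvd
    (dvd_of_nontrivial N hN hNc ha haG hf hn hfn hd)
    (dvd_of_nontrivial M hM hMc hb hbG hf hm hfm hd))

end CfsgLib.PalfyThree
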