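import Mathlib
import Cfsg.Agent.PalfyThree.Bound
import Cfsg.Agent.Solvable.Fitting
import Cfsg.Agent.Char.CliffordCorrespondence
import Cfsg.Agent.Char.Linear

/-!
Solvable linear groups in which every non-trivial vector is fixed by exactly one Sylow `q`-subgroup
and exactly one Sylow `r`-subgroup have a character degree divisible by `q * r`.
-/

set_option autoImplicit false
set_option linter.style.haveILetI false
set_option linter.unusedSectionVars false

namespace CfsgLib.PalfyThree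

open CfsgLib.Char

universe u w

section fixed

variable {K : Type u} [Group K] {V : Type w} [CommGroup V]

/-- The common fixed points of a subgroup. -/
def fixOf (ρ : K →* MulAut V) (Q : Subgroup K) : Subgroup V where
  carrier := {v | ∀ x ∈ Q, ρ x v = v}
  one_mem' := fun x _ => map_one (ρ x)
  mul_mem' := fun {a c} ha hc x hx => by rw [map_mul, ha x hx, hc x hx]
  inv_mem' := fun {a} ha x hx => by rw [map_inv, ha x hx]

variable [Finite K] [Finite V] {q : ℕ} [hq : Fact q.Prime]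

/-- A normal `q`-subgroup lies in every Sylow subgroup, so is trivial. -/
theorem pCore_eq_bot (ρ : K →* MulAut V) (hρ : Function.Injective ρ)
    (hQ : ∀ v : V, v ≠ 1 → ∃! Q : Sylow q K, v ∈ fixOf ρ Q) : Cfsg.pCore q K = ⊥ := by
  rw [eq_bot_iff]
  intro x hx
  refine Subgroup.mem_bot.2 (hρ (MulEquiv.ext fun v => ?_))
  rw [map_one, MulAut.one_apply]
  by_cases hv : v = 1
  · rw [hv, map_one]
  · obtain ⟨Q, hQv, -⟩ := hQ v hv
    exact hQv x (Fitting.pCore_le_sylow Q hx)

theorem card_fix_eq (ρ : K →* MulAut V) (Q Q' : Sylow q K) :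
    Nat.card (fixOf ρ Q) = Nat.card (fixOf ρ Q') := by
  obtain ⟨g, rfl⟩ := MulAction.exists_smul_eq K Q Q'
  refine Nat.card_congr (Equiv.subtypeEquiv (ρ g).toEquiv fun v => ?_)
  have hmem : ∀ x : K, x ∈ ((g • Q : Sylow q K) : Subgroup K) ↔ g⁻¹ * x * g ∈ (Q : Subgroup K) := fun x => by
    rw [Sylow.coe_subgroup_smul, Subgroup.mem_pointwise_smul_iff_inv_smul_mem, MulAut.smul_def,
      MulAut.conj_inv_apply]
  constructor
  · intro h x hx
    have h1 := h _ ((hmem x).1 hx)
    show ρ x (ρ g v) = ρ g v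
    conv_rhs => rw [← h1]
    rw [← MulAut.mul_apply, ← map_mul, ← MulAut.mul_apply, ← map_mul]
    congr 2
    group
  · intro h x hx
    have h1 : ρ (g * x * g⁻¹) (ρ g v) = ρ g v :=
      h _ ((hmem _).2 (by rwa [show g⁻¹ * (g * x * g⁻¹) * g = x by group]))
    rw [← MulAut.mul_apply, ← map_mul, show g * x * g⁻¹ * g = g * x by group, map_mul,
      MulAut.mul_apply] at h1
    exact (ρ g).injective h1

/-- The non-trivial vectors are partitioned by their Sylow subgroups. -/
theorem count_card (ρ : K →* MulAut V) {s b : ℕ} [Fact s.Prime]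
    (hV : ∀ v : V, v ^ s = 1) (hb : Nat.card V = s ^ b)
    (hQ : ∀ v : V, v ≠ 1 → ∃! Q : Sylow q K, v ∈ fixOf ρ Q) :
    ∃ w, (∀ Q : Sylow q K, Nat.card (fixOf ρ Q) = s ^ w) ∧
      Nat.card (Sylow q K) * (s ^ w - 1) = s ^ b - 1 := by
  classical
  haveI := Fintype.ofFinite V
  haveI := Fintype.ofFinite (Sylow q K)
  obtain ⟨Q₀⟩ : Nonempty (Sylow q K) := inferInstance
  obtain ⟨w, hw⟩ := exists_card_pow hV (fixOf ρ Q₀)
  have hcard : ∀ Q : Sylow q K, Nat.card (fixOf ρ Q) = s ^ w := fun Q => (card_fix_eq ρ Q Q₀).trans hw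
  let F : Sylow q K → Finset V := fun Q => Finset.univ.filter fun v => v ≠ 1 ∧ v ∈ fixOf ρ Q
  have hF : ∀ Q, (F Q).card = s ^ w - 1 := fun Q => by
    have h : F Q = (Finset.univ.filter fun v => v ∈ fixOf ρ Q).erase 1 := by
      ext v; simp [F, and_comm]
    rw [h, Finset.card_erase_of_mem (by simp [one_mem]), ← hcard Q, Nat.card_eq_fintype_card,
      Fintype.card_subtype]
  have hsum : Nat.card (Sylow q K) * (s ^ w - 1) = s ^ b - 1 := by
    have hU : (Finset.univ : Finset (Sylow q K)).biUnion F = Finset.univ.erase 1 := by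
      ext v
      simp only [Finset.mem_biUnion, Finset.mem_univ, true_and, F, Finset.mem_filter, Finset.mem_erase]
      constructor
      · rintro ⟨Q, hv, -⟩; exact ⟨hv, trivial⟩
      · rintro ⟨hv, -⟩
        obtain ⟨Q, hQv, -⟩ := hQ v hv
        exact ⟨Q, hv, hQv⟩
    have hdis : ((Finset.univ : Finset (Sylow q K)) : Set (Sylow q K)).PairwiseDisjoint F := by
      intro Q _ Q' _ hne
      refine Finset.disjoint_left.2 fun v hv hv' => hne ?_
      simp only [F, Finset.mem_filter, Finset.mem_univ, true_and] at hv hv'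
      exact (hQ v hv.1).unique hv.2 hv'.2
    have h := congrArg Finset.card hU
    rw [Finset.card_biUnion hdis, Finset.sum_const_nat (fun Q _ => hF Q), Finset.card_univ,
      Finset.card_erase_of_mem (Finset.mem_univ _), Finset.card_univ, ← Nat.card_eq_fintype_card,
      ← Nat.card_eq_fintype_card, hb] at h
    exact h
  exact ⟨w, hcard, hsum⟩

/-- Counting vectors by their Sylow subgroups. -/
theorem count (ρ : K →* MulAut V) (hρ : Function.Injective ρ) {s b : ℕ} [Fact s.Prime]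
    (hV : ∀ v : V, v ^ s = 1) (hb : Nat.card V = s ^ b) (hb1 : 1 ≤ b) (hqK : q ∣ Nat.card K)
    (hQ : ∀ v : V, v ≠ 1 → ∃! Q : Sylow q K, v ∈ fixOf ρ Q) :
    ∃ w, 1 ≤ w ∧ w < b ∧ (∀ Q : Sylow q K, Nat.card (fixOf ρ Q) = s ^ w) ∧
      Nat.card (Sylow q K) * (s ^ w - 1) = s ^ b - 1 ∧
      q ∣ Nat.card (Sylow q K) - 1 ∧ Nat.card (Sylow q K) ∣ Nat.card K := by
  obtain ⟨Q₀⟩ : Nonempty (Sylow q K) := inferInstance
  obtain ⟨w, hcard, hsum⟩ := count_card ρ hV hb hQ
  have hw := hcard Q₀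
  have hs : 1 < s ^ b := Nat.one_lt_pow (by omega) (Fact.out : s.Prime).one_lt
  have hw1 : 1 ≤ w := by
    rcases Nat.eq_zero_or_pos w with rfl | h
    · rw [pow_zero, Nat.sub_self, mul_zero] at hsum; omega
    · exact h
  have hwb : w < b := by
    by_contra hcon
    have hle : s ^ b ≤ s ^ w := Nat.pow_le_pow_right (Fact.out : s.Prime).pos (by omega)
    have htop : fixOf ρ Q₀ = ⊤ := Subgroup.eq_top_of_le_card _ (by rw [hb, hw]; exact hle)
    have hQ₀ : (Q₀ : Subgroup K) = ⊥ := by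
      rw [eq_bot_iff]
      intro x hx
      refine Subgroup.mem_bot.2 (hρ (MulEquiv.ext fun v => ?_))
      rw [map_one, MulAut.one_apply]
      exact (htop ▸ Subgroup.mem_top v : v ∈ fixOf ρ Q₀) x hx
    have h := Q₀.card_eq_multiplicity
    rw [hQ₀, Subgroup.card_bot, eq_comm, Nat.pow_eq_one] at h
    rcases h with h | h
    · exact hq.out.ne_one h
    · exact absurd h (hq.out.factorization_pos_of_dvd Nat.card_pos.ne' hqK).ne'
  refine ⟨w, hw1, hwb, hcard, hsum, ?_, ?_⟩
  · exact (Nat.modEq_iff_dvd' Nat.card_pos).1 (card_sylow_modEq_one q K).symm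
  · exact Q₀.card_dvd_index.trans (Subgroup.index_dvd_card _)

end fixed

/-- The exceptional numerical configurations do not occur. -/
theorem small_contra {K : Type u} [Group K] [Finite K] {V : Type w} [CommGroup V] [Finite V]
    (ρ : K →* MulAut V) (hρ : Function.Injective ρ) {s b q r w' : ℕ} [Fact s.Prime] [Fact q.Prime]
    [Fact r.Prime] (hV : ∀ v : V, v ^ s = 1) (hb : Nat.card V = s ^ b) (hb1 : 1 ≤ b)
    (hrK : r ∣ Nat.card K)
    (hQ : ∀ v : V, v ≠ 1 → ∃! Q : Sylow q K, v ∈ fixOf ρ Q)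
    (hR : ∀ v : V, v ≠ 1 → ∃! R : Sylow r K, v ∈ fixOf ρ R)
    (hcomm : ∀ v : V, v ≠ 1 → ∀ (Q : Sylow q K) (R : Sylow r K), v ∈ fixOf ρ Q → v ∈ fixOf ρ R →
      ∀ x ∈ (Q : Subgroup K), ∀ y ∈ (R : Subgroup K), Commute x y)
    (hw : ∀ Q : Sylow q K, Nat.card (fixOf ρ Q) = s ^ w') (hok : SmallOK s b q r w') : False := by
  classical
  obtain ⟨hrs, hok⟩ := hok
  have hs := (Fact.out : s.Prime)
  haveI : Nontrivial V := Finite.one_lt_card_iff_nontrivial.1 (hb ▸ Nat.one_lt_pow (by omega) hs.one_lt)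
  obtain ⟨v, hv⟩ := exists_ne (1 : V)
  obtain ⟨Q, hQv, -⟩ := hQ v hv
  obtain ⟨R, hRv, -⟩ := hR v hv
  have hr1 : r ∣ Nat.card R := by
    rw [R.card_eq_multiplicity]
    exact dvd_pow_self r ((Fact.out : r.Prime).factorization_pos_of_dvd Nat.card_pos.ne' hrK).ne'
  obtain ⟨y, hy⟩ := exists_prime_orderOf_dvd_card' r hr1
  have hyr : ρ (y : K) ^ r = 1 := by
    have h := pow_orderOf_eq_one y
    rw [hy] at h
    rw [← map_pow, ← Subgroup.coe_pow, h, Subgroup.coe_one, map_one]
  have hy1 : ρ (y : K) ≠ 1 := fun h => by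
    have h1 : y = 1 := Subtype.ext (hρ (h.trans (map_one ρ).symm))
    rw [h1, orderOf_one] at hy
    exact (Fact.out : r.Prime).ne_one hy.symm
  set e := ρ (y : K)
  have hle : ∀ {W : Subgroup V} {i : ℕ}, Nat.card W = s ^ i → i ≤ b := fun {W i} h => by
    have := Nat.le_of_dvd (hb ▸ Nat.pow_pos hs.pos) W.card_subgroup_dvd_card
    rw [h, hb] at this
    exact (Nat.pow_le_pow_iff_right hs.one_lt).1 this
  obtain ⟨f, hf⟩ := exists_card_pow hV (fixSub e)
  have hfb : f < b := by
    refine lt_of_le_of_ne (hle hf) fun h => hy1 (MulEquiv.ext fun u => ?_)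
    have htop := (fixSub e).card_eq_iff_eq_top.1 (by rw [hf, hb, h])
    exact (htop ▸ Subgroup.mem_top u : u ∈ fixSub e)
  let φ : V →* V := MonoidHom.mk' (fun u => e u / u) fun a c => by
    show e (a * c) / (a * c) = e a / a * (e c / c)
    rw [map_mul, mul_div_mul_comm]
  have hU : Nat.card φ.range = s ^ (b - f) := by
    have hker : φ.ker = fixSub e := by
      ext u; rw [MonoidHom.mem_ker]; exact div_eq_one
    have h := φ.ker.card_mul_index
    rw [Subgroup.index_ker, hker, hf, hb,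
      show s ^ b = s ^ f * s ^ (b - f) by rw [← pow_add, Nat.add_sub_cancel' hfb.le]] at h
    exact Nat.eq_of_mul_eq_mul_left (Nat.pow_pos hs.pos) h
  have hUfix : φ.range ⊓ fixSub e = ⊥ := by
    rw [eq_bot_iff]
    rintro u ⟨⟨a, rfl⟩, hu⟩
    rw [Subgroup.mem_bot]
    have hu' : e (φ a) = φ a := hu
    have ha : ∀ i : ℕ, (e ^ i) a = a * φ a ^ i := fun i => by
      induction i with
      | zero => simp
      | succ i ih =>
        rw [pow_succ', MulAut.mul_apply, ih, map_mul, map_pow, hu', pow_succ', ← mul_assoc]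
        congr 1
        exact (mul_div_cancel a (e a)).symm
    have h1 := ha r
    rw [hyr, MulAut.one_apply, left_eq_mul] at h1
    exact orderOf_eq_one_iff.1 (Nat.eq_one_of_dvd_coprimes
      ((Nat.coprime_primes (Fact.out : r.Prime) hs).2 hrs) (orderOf_dvd_of_pow_eq_one h1)
      (orderOf_dvd_of_pow_eq_one (hV _)))
  let U₀ : Subgroup V := φ.range ⊓ fixOf ρ Q
  obtain ⟨i, hi⟩ := exists_card_pow hV U₀
  have hcy : ∀ x ∈ (Q : Subgroup K), ∀ u, ρ x (e u) = e (ρ x u) := fun x hx u => by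
    rw [← MulAut.mul_apply, ← map_mul, (hcomm v hv Q R hQv hRv x hx y y.2).eq, map_mul, MulAut.mul_apply]
  have hUe : ∀ u ∈ φ.range, e u ∈ φ.range := by
    rintro _ ⟨a, rfl⟩
    exact ⟨e a, (map_div e (e a) a).symm⟩
  have hU₀e : ∀ u ∈ U₀, e u ∈ U₀ := fun u hu =>
    ⟨hUe u hu.1, fun x hx => by rw [hcy x hx, hu.2 x hx]⟩
  have h1 := card_modEq_fix (W := (⊤ : Subgroup V)) hyr (fun u _ => Subgroup.mem_top _)
  rw [Subgroup.card_top, top_inf_eq, hb, hf] at h1
  have h2 := card_modEq_fix (W := U₀) hyr hU₀e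
  rw [show U₀ ⊓ fixSub e = ⊥ from eq_bot_iff.2 fun u hu => hUfix.le ⟨hu.1.1, hu.2⟩, Subgroup.card_bot, hi] at h2
  -- `Q` acts on the moved part
  have hUQ : ∀ x : (Q : Subgroup K), ∀ u ∈ φ.range, ρ (x : K) u ∈ φ.range := by
    rintro x _ ⟨a, rfl⟩
    exact ⟨ρ x a, by
      show e (ρ x a) / ρ x a = ρ x (e a / a)
      rw [map_div, hcy x x.2]⟩
  letI : MulAction (Q : Subgroup K) φ.range :=
    { smul := fun x u => ⟨ρ (x : K) u, hUQ x u u.2⟩
      one_smul := fun u => Subtype.ext (by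
        show ρ ((1 : (Q : Subgroup K)) : K) (u : V) = u
        rw [Subgroup.coe_one, map_one, MulAut.one_apply])
      mul_smul := fun x x' u => Subtype.ext (by
        show ρ ((x * x' : (Q : Subgroup K)) : K) (u : V) = ρ (x : K) (ρ (x' : K) u)
        rw [Subgroup.coe_mul, map_mul, MulAut.mul_apply]) }
  have h3 := Q.2.card_modEq_card_fixedPoints φ.range
  have hfp : Nat.card (MulAction.fixedPoints (Q : Subgroup K) φ.range) = s ^ i := by
    rw [← hi]
    exact Nat.card_congr
      { toFun := fun u => ⟨u.1.1, u.1.2, fun x hx => congrArg Subtype.val (u.2 ⟨x, hx⟩)⟩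
        invFun := fun u => ⟨⟨u.1, u.2.1⟩, fun x => Subtype.ext (u.2.2 x x.2)⟩
        left_inv := fun u => rfl
        right_inv := fun u => rfl }
  rw [hfp, hU] at h3
  refine hok f hfb i ?_ ?_ ⟨h1, h2, h3⟩
  · exact (Nat.pow_le_pow_iff_right hs.one_lt).1 (hi ▸ hU ▸
      Nat.le_of_dvd Nat.card_pos (Subgroup.card_dvd_of_le (inf_le_left : U₀ ≤ φ.range)))
  · exact (Nat.pow_le_pow_iff_right hs.one_lt).1 (hi ▸ hw Q ▸
      Nat.le_of_dvd Nat.card_pos (Subgroup.card_dvd_of_le (inf_le_right : U₀ ≤ fixOf ρ Q)))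

/-- A self-centralising cyclic Fitting subgroup gives a character of degree its index. -/
theorem exists_degree_of_cyclic {K : Type u} [Group K] [Finite K] [Group.IsSolvable K]
    (hcyc : IsCyclic (Cfsg.fittingSubgroup K)) :
    ∃ χ : K → ℂ, Cfsg.IsIrrCharacter K χ ∧ χ 1 = ((Cfsg.fittingSubgroup K).index : ℂ) := by
  classical
  haveI := Fintype.ofFinite K
  set F := Cfsg.fittingSubgroup K
  haveI := Fintype.ofFinite F
  haveI : NeZero (Nat.card F) := ⟨Nat.card_pos.ne'⟩
  let e : F ≃* rootsOfUnity (Nat.card F) ℂ := mulEquivOfCyclicCardEq (by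
    rw [Complex.card_rootsOfUnity])
  let lam : F →* ℂˣ := (rootsOfUnity (Nat.card F) ℂ).subtype.comp e.toMonoidHom
  have hinj : Function.Injective lam := Subtype.val_injective.comp e.injective
  have hI : inertia (fun n : F => (lam n : ℂ)) = F := by
    refine le_antisymm (fun g hg => ?_) (le_inertia (IsIrrCharacter.isClassFunction (isIrrCharacter_ofHom lam)))
    refine Fitting.centralizer_fittingSubgroup_le_of_solvable (Subgroup.mem_centralizer_iff.2 fun n hn => ?_)
    have h1 := hinj (Units.ext ((mem_inertia_iff _ g).1 hg ⟨n, hn⟩))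
    have h2 := congrArg Subtype.val h1
    simp only at h2
    exact (mul_inv_eq_iff_eq_mul.1 h2).symm
  have hres : (fun n : F => (fun t : F => (lam t : ℂ)) (Subgroup.inclusion le_rfl n)) = fun n : F => (lam n : ℂ) :=
    funext fun n => rfl
  refine ⟨_, (isIrrCharacter_indFun_of_inertia (le_refl F) (isIrrCharacter_ofHom lam) hI
    (isIrrCharacter_ofHom lam) (by rw [hres, IsIrrCharacter.classInner_self (isIrrCharacter_ofHom lam)]; exact one_ne_zero)).1, ?_⟩
  rw [indFun_one, map_one, Units.val_one, mul_one]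

/-- The main statement on linear groups. -/
theorem exists_degree {K : Type u} [Group K] [Finite K] [Group.IsSolvable K] {V : Type w} [CommGroup V]
    [Finite V] [Nontrivial V] {s : ℕ} [hs : Fact s.Prime] (hV : ∀ v : V, v ^ s = 1) (ρ : K →* MulAut V)
    (hρ : Function.Injective ρ)
    (hirr : ∀ W : Subgroup V, (∀ g, ∀ v ∈ W, ρ g v ∈ W) → W = ⊥ ∨ W = ⊤)
    {q r : ℕ} [hq : Fact q.Prime] [hr : Fact r.Prime] (hqr : q ≠ r) (hqK : q ∣ Nat.card K)
    (hrK : r ∣ Nat.card K)
    (hQ : ∀ v : V, v ≠ 1 → ∃! Q : Sylow q K, v ∈ fixOf ρ Q)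
    (hR : ∀ v : V, v ≠ 1 → ∃! R : Sylow r K, v ∈ fixOf ρ R)
    (hcomm : ∀ v : V, v ≠ 1 → ∀ (Q : Sylow q K) (R : Sylow r K), v ∈ fixOf ρ Q → v ∈ fixOf ρ R →
      ∀ x ∈ (Q : Subgroup K), ∀ y ∈ (R : Subgroup K), Commute x y) :
    ∃ (χ : K → ℂ) (d : ℕ), Cfsg.IsIrrCharacter K χ ∧ χ 1 = d ∧ q * r ∣ d := by
  classical
  obtain ⟨b, hb⟩ : ∃ b, Nat.card V = s ^ b := IsPGroup.exists_card_eq fun v => ⟨1, by rw [pow_one]; exact hV v⟩
  have hb1 : 1 ≤ b := by
    rcases Nat.eq_zero_or_pos b with rfl | h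
    · rw [pow_zero] at hb
      exact absurd hb Finite.one_lt_card.ne'
    · exact h
  obtain ⟨wq, hwq1, hwqb, hwq, hnq, hqn, hnqK⟩ := count ρ hρ hV hb hb1 hqK hQ
  obtain ⟨wr, hwr1, hwrb, hwr, hnr, hrn, -⟩ := count ρ hρ hV hb hb1 hrK hR
  rcases Nat.lt_or_ge b 3 with hb3 | hb3
  · -- dimension two
    exfalso
    have : b = 2 ∧ wq = 1 ∧ wr = 1 := by omega
    obtain ⟨rfl, rfl, rfl⟩ := this
    have key : ∀ n p : ℕ, p.Prime → n * (s ^ 1 - 1) = s ^ 2 - 1 → p ∣ n - 1 → p = s := by
      intro n p hp hn hpn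
      have h2 := hs.out.two_le
      have hn1 : n = s + 1 := by
        rw [pow_one, show s ^ 2 - 1 = (s + 1) * (s - 1) by rw [sq, ← Nat.mul_self_sub_mul_self_eq, mul_one]] at hn
        exact Nat.eq_of_mul_eq_mul_right (by omega) hn
      rw [hn1, Nat.add_sub_cancel] at hpn
      exact (Nat.prime_dvd_prime_iff_eq hp hs.out).1 hpn
    exact hqr ((key _ _ hq.out hnq hqn).trans (key _ _ hr.out hnr hrn).symm)
  by_cases hsmall : (s, b) = (3, 4) ∨ (s, b) = (2, 6)
  · exfalso
    have hdiv : ∀ {n w : ℕ}, 1 ≤ w → n * (s ^ w - 1) = s ^ b - 1 →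
        (s ^ w - 1) ∣ (s ^ b - 1) ∧ (s ^ b - 1) / (s ^ w - 1) = n := fun {n w} hw h => by
      refine ⟨⟨n, by rw [← h, mul_comm]⟩, ?_⟩
      rw [← h]
      have := Nat.one_lt_pow (show w ≠ 0 by omega) hs.out.one_lt
      exact Nat.mul_div_cancel _ (by omega)
    obtain ⟨d1, e1⟩ := hdiv hwq1 hnq
    obtain ⟨d2, e2⟩ := hdiv hwr1 hnr
    rcases small_table hsmall hwqb hwrb hq.out hr.out hqr hwq1 hwr1 d1 d2 (e1.symm ▸ hqn) (e2.symm ▸ hrn) with h | h
    · exact small_contra ρ hρ hV hb hb1 hrK hQ hR hcomm hwq h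
    · exact small_contra ρ hρ hV hb hb1 hqK hR hQ (fun v hv R Q hRv hQv x hx y hy => (hcomm v hv Q R hQv hRv y hy x hx).symm) hwr h
  push Not at hsmall
  -- the field of a primitive prime
  have hdvdK : ∀ M, M ∣ s ^ b - 1 → M.Coprime (s ^ wq - 1) → M ∣ Nat.card K := fun M hM hc =>
    (hc.dvd_of_dvd_mul_right (hnq ▸ hM)).trans hnqK
  have key : ∀ l, IsPrim s b l → IsCyclic (Cfsg.fittingSubgroup K) ∨
      (Odd s ∧ (∃ m, b = 2 ^ m) ∧ l = b + 1 ∧ ¬ l ^ 2 ∣ Nat.card K) := by
    intro l hl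
    haveI := Fact.mk hl.1
    have hlK : l ∣ Nat.card K :=
      hdvdK l hl.2.1 (hl.1.coprime_iff_not_dvd.2 (hl.2.2 wq hwq1 hwqb))
    obtain ⟨P⟩ : Nonempty (Sylow l K) := inferInstance
    have hPcard := P.card_eq_multiplicity
    obtain ⟨v, hv⟩ : ∃ v, (Nat.card K).factorization l = v + 1 :=
      Nat.exists_eq_succ_of_ne_zero (hl.1.factorization_pos_of_dvd Nat.card_pos.ne' hlK).ne'
    rw [hv] at hPcard
    -- centralisers of elements of order `l` are cyclic
    have hcen : ∀ x : K, orderOf x = l → IsCyclic (Subgroup.centralizer ({x} : Set K)) := by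
      intro x hx
      have hx1 : ρ x ≠ 1 := fun h => by
        have h1 : x = 1 := hρ (h.trans (map_one ρ).symm)
        rw [h1, orderOf_one] at hx
        exact hl.1.ne_one hx.symm
      haveI := isCyclic_of_commute hV hb hl (e := ρ x) (by rw [← map_pow, ← hx, pow_orderOf_eq_one, map_one]) hx1
        ((Subgroup.centralizer ({x} : Set K)).map ρ) (by
          rintro _ ⟨c, hc, rfl⟩
          exact (show Commute c x from Subgroup.mem_centralizer_singleton_iff.1 hc).map ρ)
      exact isCyclic_of_injective ((Subgroup.centralizer ({x} : Set K)).equivMapOfInjective ρ hρ).toMonoidHom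
        ((Subgroup.centralizer ({x} : Set K)).equivMapOfInjective ρ hρ).injective
    haveI : Nontrivial (P : Subgroup K) := Finite.one_lt_card_iff_nontrivial.1
      (hPcard.symm ▸ Nat.one_lt_pow (Nat.succ_ne_zero v) hl.1.one_lt)
    haveI : IsCyclic (P : Subgroup K) := by
      haveI := P.2.center_nontrivial
      obtain ⟨z, hz⟩ := exists_prime_orderOf_dvd_card' (G := Subgroup.center (P : Subgroup K)) l
        (((P.2.to_subgroup _).exists_card_eq).elim fun i hi => by
          rw [hi]; refine dvd_pow_self l fun h => ?_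
          rw [h, pow_zero] at hi
          exact (Finite.one_lt_card (α := Subgroup.center (P : Subgroup K))).ne' hi)
      have hz' : orderOf (((z : (P : Subgroup K)) : K)) = l := by
        rw [Subgroup.orderOf_coe, Subgroup.orderOf_coe, hz]
      haveI := hcen _ hz'
      have hle : (P : Subgroup K) ≤ Subgroup.centralizer ({((z : (P : Subgroup K)) : K)} : Set K) := fun c hc =>
        Subgroup.mem_centralizer_singleton_iff.2
          (congrArg Subtype.val (Subgroup.mem_center_iff.1 z.2 ⟨c, hc⟩))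
      exact isCyclic_of_injective (Subgroup.inclusion hle) (Subgroup.inclusion_injective hle)
    obtain ⟨g, hg⟩ := IsCyclic.exists_generator (α := (P : Subgroup K))
    have hog : orderOf (g : K) = l ^ (v + 1) := by
      rw [Subgroup.orderOf_coe, orderOf_eq_card_of_forall_mem_zpowers hg, hPcard]
    set x := (g : K) ^ l ^ v with hx
    have hox : orderOf x = l := by
      rw [hx, orderOf_pow_of_dvd (Nat.pow_pos hl.1.pos).ne' (hog ▸ pow_dvd_pow l (Nat.le_succ v)), hog,
        pow_succ, Nat.mul_div_cancel_left _ (Nat.pow_pos hl.1.pos)]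
    have hPx : ∀ c ∈ (P : Subgroup K), Commute x c := fun c hc => by
      letI := IsCyclic.commGroup (α := (P : Subgroup K))
      exact (show Commute ((g : K)) c from congrArg Subtype.val (mul_comm g ⟨c, hc⟩)).pow_left _
    by_cases hall : ∀ t : ℕ, t.Prime → ∀ u ∈ Cfsg.pCore t K, Commute x u
    · left
      haveI := hcen x hox
      have hle : Cfsg.fittingSubgroup K ≤ Subgroup.centralizer ({x} : Set K) := by
        rw [Solvable.fittingSubgroup_eq_iSup_pCore]
        exact iSup_le fun t u hu => Subgroup.mem_centralizer_singleton_iff.2 (hall t t.2 u hu).eq.symm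
      exact isCyclic_of_injective (Subgroup.inclusion hle) (Subgroup.inclusion_injective hle)
    right
    push Not at hall
    obtain ⟨t, htp, u, hu, hnc⟩ := hall
    haveI := Fact.mk htp
    have htl : t ≠ l := by
      rintro rfl
      exact hnc (hPx u (Fitting.pCore_le_sylow P hu))
    have hts : t ≠ s := by
      rintro rfl
      apply hnc
      let φ : Cfsg.pCore t K →* MulAut V := ρ.comp (Cfsg.pCore t K).subtype
      letI : MulAction (Cfsg.pCore t K) V := MulAction.compHom V φ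
      have hfix := (Solvable.isPGroup_pCore (p := t) (G := K)).exists_fixed_point_of_prime_dvd_card_of_fixed_point V
        (hb ▸ dvd_pow_self t (by omega)) (a := (1 : V)) (fun c => map_one (φ c))
      obtain ⟨w₁, hw₁, hne⟩ := hfix
      rcases hirr (fixOf ρ (Cfsg.pCore t K)) (fun a w hw c hc => by
          have h := hw (a⁻¹ * c * a) (by simpa using (Solvable.pCore_normal (p := t) (G := K)).conj_mem c hc a⁻¹)
          rw [← MulAut.mul_apply, ← map_mul]
          conv_rhs => rw [← h]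
          rw [← MulAut.mul_apply, ← map_mul]
          congr 2
          group) with h | h
      · exact absurd (Subgroup.mem_bot.1 (h ▸ (fun c hc => hw₁ ⟨c, hc⟩) : w₁ ∈ (⊥ : Subgroup V))) hne.symm
      · have hu1 : u = 1 := hρ (MulEquiv.ext fun w => by
          rw [map_one, MulAut.one_apply]
          exact (h ▸ Subgroup.mem_top w : w ∈ fixOf ρ (Cfsg.pCore t K)) u hu)
        rw [hu1]
        exact Commute.one_right x
    obtain ⟨m, hm1, htm, hlm⟩ := bound hV hb (by omega) hl ρ hρ hog hts htl (Solvable.isPGroup_pCore (p := t) (G := K))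
      (fun c hc => (Solvable.pCore_normal (p := t) (G := K)).conj_mem c hc _) fun h => hnc (h u hu)
    have hbl := hl.le_pred hs.out.two_le hb1
    have hv0 : v = 0 := by
      by_contra h
      have := Nat.pow_le_pow_right hl.1.pos (show 2 ≤ v + 1 by omega)
      have := Nat.mul_le_mul_left l hbl
      rw [sq] at *
      nlinarith
    subst hv0
    rw [pow_one] at hlm
    have hl1 : l = b + 1 := by omega
    have hbt : t ^ m = b := by omega
    have ht2 : t = 2 := by
      by_contra hne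
      have hodd : Odd (t ^ m) := (htp.odd_of_ne_two hne).pow
      rcases hl.1.eq_two_or_odd' with h2 | h2
      · omega
      · exact (Nat.not_even_iff_odd.2 h2) (by rw [hl1, ← hbt]; exact hodd.add_one)
    subst ht2
    refine ⟨hs.out.odd_of_ne_two (Ne.symm hts), ⟨m, hbt.symm⟩, hl1, fun h => ?_⟩
    have := (hl.1.pow_dvd_iff_le_factorization Nat.card_pos.ne').1 h
    omega
  have hdone : IsCyclic (Cfsg.fittingSubgroup K) := by
    obtain ⟨l, hl⟩ := exists_prim hs.out.two_le hb3 hsmall.2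
    rcases key l hl with h | ⟨hodd, ⟨m, rfl⟩, -, -⟩
    · exact h
    obtain ⟨M, hM, hc, hge⟩ := Zsig.exists_primitive_part hs.out.two_le hb3 (not_exception hodd hsmall.1)
    by_contra hno
    have hfac : ∀ l', l'.Prime → l' ∣ M → l' = 2 ^ m + 1 := fun l' h1 h2 =>
      ((key l' (prim_of_dvd h1 h2 hM hc)).resolve_left hno).2.2.1
    obtain ⟨l', hl', hl'M⟩ := Nat.exists_prime_and_dvd (show M ≠ 1 by omega)
    obtain ⟨j, rfl⟩ : ∃ j, M = l' ^ j := ⟨_, Nat.eq_prime_pow_of_unique_prime_dvd (by omega) fun {d} h1 h2 =>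
      (hfac d h1 h2).trans (hfac l' hl' hl'M).symm⟩
    obtain ⟨-, -, hl'eq, hsq⟩ := (key l' (prim_of_dvd hl' hl'M hM hc)).resolve_left hno
    have hMK := hdvdK (l' ^ j) hM (hc wq hwq1 hwqb)
    have hj : j ≤ 1 := by
      by_contra h
      exact hsq ((pow_dvd_pow l' (by omega)).trans hMK)
    have := Nat.pow_le_pow_right hl'.pos hj
    rw [pow_one] at this
    omega
  obtain ⟨χ, hχ, hχ1⟩ := exists_degree_of_cyclic hdone
  refine ⟨χ, _, hχ, hχ1, ?_⟩
  have hF : ∀ {p : ℕ} [Fact p.Prime], p ∣ Nat.card K → Cfsg.pCore p K = ⊥ →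
      p ∣ (Cfsg.fittingSubgroup K).index := by
    intro p hp hpK hbot
    rw [← (Cfsg.fittingSubgroup K).card_mul_index] at hpK
    refine (hp.out.dvd_mul.1 hpK).resolve_left fun h => ?_
    obtain ⟨u, hu⟩ := exists_prime_orderOf_dvd_card' p h
    haveI := hdone
    haveI : ((Subgroup.zpowers u).map (Cfsg.fittingSubgroup K).subtype).Normal := by
      refine ⟨?_⟩
      rintro _ ⟨c, hc, rfl⟩ a
      obtain ⟨i, hi⟩ := MonoidHom.map_cyclic
        (MulAut.conjNormal a : MulAut (Cfsg.fittingSubgroup K)).toMonoidHom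
      refine ⟨c ^ i, Subgroup.zpow_mem _ hc i, ?_⟩
      rw [← hi c]
      rfl
    have hle : (Subgroup.zpowers u).map (Cfsg.fittingSubgroup K).subtype ≤ Cfsg.pCore p K :=
      Solvable.le_pCore p inferInstance ((IsPGroup.of_card (n := 1) (by rw [Nat.card_zpowers, hu, pow_one])).map _)
    rw [hbot, le_bot_iff] at hle
    have h1 : (u : K) ∈ (⊥ : Subgroup K) := hle ▸ ⟨u, Subgroup.mem_zpowers u, rfl⟩
    rw [← Subgroup.orderOf_coe, Subgroup.mem_bot.1 h1, orderOf_one] at hu
    exact hp.out.ne_one hu.symm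
  exact Nat.Coprime.mul_dvd_of_dvd_of_dvd ((Nat.coprime_primes hq.out hr.out).2 hqr)
    (hF hqK (pCore_eq_bot ρ hρ hQ)) (hF hrK (pCore_eq_bot ρ hρ hR))

end CfsgLib.PalfyThree
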