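import Mathlib
import Cfsg.Agent.PalfyThree.LinearGroup
import Cfsg.Agent.PalfyThree.Over
import Cfsg.Agent.Char.DegreesPrime

/-!
The dual of an abelian normal subgroup as a module, and the Sylow subgroup fixing one of its points.
-/

set_option autoImplicit false
set_option linter.style.haveILetI false
set_option linter.unusedSectionVars false

namespace CfsgLib.PalfyThree

open CfsgLib.Char

universe u w

variable {G : Type u} [Group G] [Finite G]

theorem act_fix_iff (N : Subgroup G) [N.Normal] (g : G) (l : N →* ℂˣ) :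
    DegreesPrime.act N g l = l ↔ g ∈ inertia fun n : N => (l n : ℂ) := by
  haveI := Fintype.ofFinite G
  rw [DegreesPrime.act_eq_iff, inv_mem_iff]

theorem hom_pow (N : Subgroup G) {s : ℕ} (hexp : ∀ x ∈ N, x ^ s = 1) (l : N →* ℂˣ) : l ^ s = 1 :=
  MonoidHom.ext fun n => by
    rw [MonoidHom.pow_apply, ← map_pow, show n ^ s = 1 from Subtype.ext (by simpa using hexp n n.2),
      map_one, MonoidHom.one_apply]

theorem finite_dual (N : Subgroup G) : Finite (N →* ℂˣ) :=
  Nat.finite_of_card_ne_zero (by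
    rw [card_hom_eq_index_commutator]; exact Subgroup.index_ne_zero_of_finite)

theorem card_dual (N : Subgroup G) (hab : ∀ a ∈ N, ∀ b ∈ N, a * b = b * a) :
    Nat.card (N →* ℂˣ) = Nat.card N := by
  rw [card_hom_eq_index_commutator, show commutator N = ⊥ by
    rw [commutator_def, Subgroup.commutator_eq_bot_iff_le_centralizer]
    exact fun x _ y _ => Subtype.ext (hab y y.2 x x.2), Subgroup.index_bot]

theorem nontrivial_dual (N : Subgroup G) (hab : ∀ a ∈ N, ∀ b ∈ N, a * b = b * a) (hN : N ≠ ⊥) :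
    Nontrivial (N →* ℂˣ) := by
  haveI := Fintype.ofFinite G
  obtain ⟨n, hn, hn1⟩ := N.bot_or_exists_ne_one.resolve_left hN
  by_contra h
  rw [not_nontrivial_iff_subsingleton] at h
  exact hn1 (congrArg Subtype.val (DegreesPrime.separate N hab (a := ⟨n, hn⟩) (b := 1) fun l => by
    rw [Subsingleton.elim l 1, MonoidHom.one_apply, MonoidHom.one_apply]))

/-- The dual of a minimal normal abelian subgroup is irreducible. -/
theorem irreducible_dual (N : Subgroup G) [N.Normal] (hab : ∀ a ∈ N, ∀ b ∈ N, a * b = b * a)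
    (hmin : ∀ M : Subgroup G, M.Normal → M ≤ N → M = ⊥ ∨ M = N)
    (W : Subgroup (N →* ℂˣ)) (hW : ∀ g, ∀ v ∈ W, DegreesPrime.act N g v ∈ W) : W = ⊥ ∨ W = ⊤ := by
  haveI := Fintype.ofFinite G
  let A : Subgroup G :=
    { carrier := {g | ∃ h : g ∈ N, ∀ l ∈ W, (l : N →* ℂˣ) ⟨g, h⟩ = 1}
      mul_mem' := fun {a b} ha hb => ⟨mul_mem ha.1 hb.1, fun l hl => by
        show l (⟨a, ha.1⟩ * ⟨b, hb.1⟩) = 1
        rw [map_mul, ha.2 l hl, hb.2 l hl, one_mul]⟩
      one_mem' := ⟨one_mem N, fun l _ => map_one l⟩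
      inv_mem' := fun {a} ha => ⟨inv_mem ha.1, fun l hl => by
        show l (⟨a, ha.1⟩⁻¹) = 1
        rw [map_inv, ha.2 l hl, inv_one]⟩ }
  have hA : A.Normal := ⟨fun x ⟨hx, h⟩ g => ⟨‹N.Normal›.conj_mem x hx g, fun l hl => by
    have h1 := h _ (hW g⁻¹ l hl)
    rw [DegreesPrime.act_apply] at h1
    simpa only [inv_inv] using h1⟩⟩
  rcases hmin A hA (fun x hx => hx.1) with h | h
  · refine Or.inr ?_
    haveI := finite_dual N
    let Φ : N →* (W →* ℂˣ) :=
      { toFun := fun n =>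
          { toFun := fun l => (l : N →* ℂˣ) n
            map_one' := rfl
            map_mul' := fun _ _ => rfl }
        map_one' := MonoidHom.ext fun l => map_one (l : N →* ℂˣ)
        map_mul' := fun a b => MonoidHom.ext fun l => map_mul (l : N →* ℂˣ) a b }
    have hΦ : Function.Injective Φ := (injective_iff_map_eq_one Φ).2 fun n hn => by
      have h1 : (n : G) ∈ A := ⟨n.2, fun l hl => DFunLike.congr_fun hn ⟨l, hl⟩⟩
      rw [h, Subgroup.mem_bot] at h1
      exact Subtype.ext h1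
    haveI : Finite (W →* ℂˣ) := Nat.finite_of_card_ne_zero (by
      rw [card_hom_eq_index_commutator]; exact Subgroup.index_ne_zero_of_finite)
    refine Subgroup.eq_top_of_le_card W ?_
    rw [card_dual N hab]
    refine (Nat.card_le_card_of_injective Φ hΦ).trans ?_
    rw [card_hom_eq_index_commutator]
    exact Nat.le_of_dvd Nat.card_pos (Subgroup.index_dvd_card _)
  · refine Or.inl ((Subgroup.eq_bot_iff_forall W).2 fun l hl => MonoidHom.ext fun n => ?_)
    exact (h.ge n.2).2 l hl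

variable {K : Type u} [Group K] [Finite K] {V : Type w} [CommGroup V] {q : ℕ} [Fact q.Prime]

/-- The Sylow subgroup fixing a point whose stabiliser has no degree divisible by `q`. -/
theorem exists_unique_fix [Group.IsSolvable K] (ρ : K →* MulAut V) (v : V) {S : Subgroup K}
    (hS : ∀ x, x ∈ S ↔ ρ x v = v) (hi : ¬ q ∣ S.index) (hno : NoDeg S q) :
    ∃! Q : Sylow q K, v ∈ fixOf ρ Q := by
  obtain ⟨Q, hQS, -, -, huniq⟩ := sylow_of_noDeg hi hno
  exact ⟨Q, fun x hx => (hS x).1 (hQS hx), fun Q' hQ' => huniq Q' fun x hx => (hS x).2 (hQ' x hx)⟩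

/-- The Sylow subgroups of such a stabiliser for different primes commute. -/
theorem commute_of_noDeg [Group.IsSolvable K] {r : ℕ} [Fact r.Prime] (hqr : q ≠ r) {S : Subgroup K}
    (hiq : ¬ q ∣ S.index) (hnoq : NoDeg S q) (hir : ¬ r ∣ S.index) (hnor : NoDeg S r)
    {Q : Sylow q K} {R : Sylow r K} (hQ : (Q : Subgroup K) ≤ S) (hR : (R : Subgroup K) ≤ S) :
    ∀ x ∈ (Q : Subgroup K), ∀ y ∈ (R : Subgroup K), Commute x y := by
  obtain ⟨Q₁, -, hQn, -, huQ⟩ := sylow_of_noDeg hiq hnoq
  obtain ⟨R₁, -, hRn, -, huR⟩ := sylow_of_noDeg hir hnor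
  obtain rfl := huQ Q hQ
  obtain rfl := huR R hR
  intro x hx y hy
  have h1 : x * y * x⁻¹ * y⁻¹ ∈ (Q : Subgroup K) ⊓ (R : Subgroup K) := by
    refine ⟨?_, ?_⟩
    · rw [mul_assoc, mul_assoc]
      refine mul_mem hx ?_
      rw [← mul_assoc]
      exact (Subgroup.mem_normalizer_iff.1 (hQn (hR hy)) _).1 (inv_mem hx)
    · exact (R : Subgroup K).mul_mem ((Subgroup.mem_normalizer_iff.1 (hRn (hQ hx)) _).1 hy) ((R : Subgroup K).inv_mem hy)
  rw [disjoint_iff.1 (IsPGroup.disjoint_of_ne q r hqr (Q : Subgroup K) R Q.2 R.2), Subgroup.mem_bot] at h1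
  show x * y = y * x
  calc x * y = x * y * x⁻¹ * y⁻¹ * (y * x) := by group
    _ = y * x := by rw [h1, one_mul]

end CfsgLib.PalfyThree
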