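import Mathlib
import Cfsg.Agent.PalfyThree.Drop
import Cfsg.Agent.PalfyThree.Dual

/-!
Pálfy's three primes theorem, the case of a minimal normal subgroup of order prime to the dropped prime.
-/

set_option autoImplicit false
set_option linter.style.haveILetI false
set_option linter.unusedSectionVars false

namespace CfsgLib.PalfyThree

open CfsgLib.Char
open scoped commutatorElement

universe u

variable {G : Type u} [Group G]

theorem stab_spec [Fintype G] (N H : Subgroup G) [N.Normal] (hsup : N ⊔ H = ⊤) (hinf : N ⊓ H = ⊥)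
    (l : N →* ℂˣ) (hl : l ≠ 1) {q : ℕ} [Fact q.Prime]
    (hnq : ∀ χ : G → ℂ, Cfsg.IsIrrCharacter G χ → (∃ n ∈ N, χ n ≠ χ 1) →
      ∀ d : ℕ, χ 1 = d → ¬ q ∣ d) :
    ¬ q ∣ ((inertia fun n : N => (l n : ℂ)).subgroupOf H).index ∧
      NoDeg ((inertia fun n : N => (l n : ℂ)).subgroupOf H) q := by
  classical
  haveI := Fintype.ofFinite N
  obtain ⟨E, hE, hEX⟩ := exists_linear_extension N H hsup hinf l
  refine inertia_noDeg N H hsup hinf (isIrrCharacter_ofHom l) hE hEX fun χ hχ hc => hnq χ hχ ?_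
  obtain ⟨n, hn⟩ : ∃ n, l n ≠ 1 := by
    by_contra! h
    exact hl (MonoidHom.ext h)
  exact nontrivial_of_constituent hχ (isIrrCharacter_ofHom l) hc N
    ⟨n, n.2, fun h => hn (Units.ext (by rw [h, map_one]))⟩

/-- The case of a minimal normal `s`-subgroup, with `s` different from the dropped prime. -/
theorem false_of_complement [Fintype G] [Group.IsSolvable G] (N : Subgroup G) [N.Normal]
    (hU : ∀ M : Subgroup G, M.Normal → M ≠ ⊥ → N ≤ M) (hN1 : N ≠ ⊥)
    (hab : ∀ a ∈ N, ∀ b ∈ N, a * b = b * a) {s : ℕ} [Fact s.Prime] (hexp : ∀ x ∈ N, x ^ s = 1)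
    {p : ℕ} [Fact p.Prime] (hsp : s ≠ p) {X : Subgroup G} [X.Normal] (hNX : N ≤ X)
    (hXi : ¬ p ∣ X.index) (hXr : ∃ k, N.relIndex X = p ^ k) (hcom : ⁅X, X⁆ = N)
    {q r : ℕ} [Fact q.Prime] [Fact r.Prime] (hqr : q ≠ r)
    (hnq : ∀ χ : G → ℂ, Cfsg.IsIrrCharacter G χ → (∃ n ∈ N, χ n ≠ χ 1) →
      ∀ d : ℕ, χ 1 = d → ¬ q ∣ d)
    (hnr : ∀ χ : G → ℂ, Cfsg.IsIrrCharacter G χ → (∃ n ∈ N, χ n ≠ χ 1) →
      ∀ d : ℕ, χ 1 = d → ¬ r ∣ d)
    (hqN : q ∣ N.index) (hrN : r ∣ N.index) (hno : NoDeg G (q * r)) : False := by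
  classical
  have hp : p.Prime := Fact.out
  have hNmin : ∀ M : Subgroup G, M.Normal → M ≤ N → M = ⊥ ∨ M = N := fun M hM hMN =>
    (eq_or_ne M ⊥).imp id fun h => le_antisymm hMN (hU M hM h)
  obtain ⟨k, hk⟩ := hXr
  obtain ⟨P⟩ : Nonempty (Sylow p G) := inferInstance
  have hPX : (P : Subgroup G) ≤ X := fun x hx => by
    obtain ⟨j, hj⟩ := P.2 ⟨x, hx⟩
    exact mem_of_coprime_index hXi (k := j) (by simpa using congrArg Subtype.val hj)
  have hXle : X ≤ N ⊔ (P : Subgroup G) := by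
    refine Subgroup.relIndex_eq_one.1 (Nat.eq_one_of_dvd_coprimes ?_
      (Subgroup.relIndex_dvd_of_le_left X le_sup_left) (Subgroup.relIndex_dvd_of_le_left X le_sup_right))
    rw [hk]
    refine Nat.Coprime.pow_left k (hp.coprime_iff_not_dvd.2 fun hd => P.not_dvd_index ?_)
    rw [← Subgroup.relIndex_mul_index hPX]
    exact hd.mul_right _
  have hNs : IsPGroup s N := fun x => ⟨1, Subtype.ext (by simpa using hexp x x.2)⟩
  have hNP : N ⊓ (P : Subgroup G) = ⊥ :=
    disjoint_iff.1 (IsPGroup.disjoint_of_ne s p hsp N P hNs P.2)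
  set C : Subgroup G := Subgroup.normalizer ((P : Subgroup G) : Set G) with hC
  have hsup : N ⊔ C = ⊤ := by
    have h1 : C ⊔ X = ⊤ := P.normalizer_sup_eq_top' hPX
    rw [eq_top_iff, ← h1, sup_le_iff]
    exact ⟨le_sup_right, hXle.trans (sup_le le_sup_left (Subgroup.le_normalizer.trans le_sup_right))⟩
  have hdec : ∀ g : G, ∃ n ∈ N, ∃ c ∈ C, n * c = g := fun g =>
    Subgroup.mem_sup_of_normal_left.1 (hsup ▸ Subgroup.mem_top g)
  have hnNC : ¬ N ≤ C := by
    intro hNC
    have hcm : ∀ n ∈ N, ∀ a ∈ (P : Subgroup G), n * a = a * n := by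
      intro n hn a ha
      rw [← commutatorElement_eq_one_iff_mul_comm, commutatorElement_def, ← Subgroup.mem_bot, ← hNP]
      refine ⟨?_, (P : Subgroup G).mul_mem ((Subgroup.mem_normalizer_iff.1 (hNC hn) a).1 ha) ((P : Subgroup G).inv_mem ha)⟩
      rw [mul_assoc, mul_assoc]
      refine mul_mem hn ?_
      rw [← mul_assoc]
      exact ‹N.Normal›.conj_mem _ (inv_mem hn) a
    have hPc : ∀ a ∈ (P : Subgroup G), ∀ b ∈ (P : Subgroup G), a * b = b * a := fun a ha b hb => by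
      rw [← commutatorElement_eq_one_iff_mul_comm, ← Subgroup.mem_bot, ← hNP]
      refine ⟨hcom ▸ Subgroup.commutator_mem_commutator (hPX ha) (hPX hb), ?_⟩
      rw [commutatorElement_def]
      exact (P : Subgroup G).mul_mem ((P : Subgroup G).mul_mem ((P : Subgroup G).mul_mem ha hb) ((P : Subgroup G).inv_mem ha)) ((P : Subgroup G).inv_mem hb)
    have hle : N ⊔ (P : Subgroup G) ≤
        Subgroup.centralizer ((N ⊔ (P : Subgroup G) : Subgroup G) : Set G) := by
      refine sup_le ?_ ?_ <;>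
      · rw [Subgroup.le_centralizer_iff, sup_le_iff]
        refine ⟨fun y hy => ?_, fun y hy => ?_⟩ <;> rw [Subgroup.mem_centralizer_iff] <;> intro x hx
        all_goals first
          | exact hab x hx y hy
          | exact hPc x hx y hy
          | exact hcm x hx y hy
          | exact (hcm y hy x hx).symm
    refine hN1 ?_
    rw [← hcom, Subgroup.commutator_eq_bot_iff_le_centralizer]
    exact (hXle.trans hle).trans (Subgroup.centralizer_le (SetLike.coe_subset_coe.2 hXle))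
  have hinf : N ⊓ C = ⊥ := by
    refine (hNmin (N ⊓ C) ⟨fun x hx g => ⟨‹N.Normal›.conj_mem x hx.1 g, ?_⟩⟩ inf_le_left).resolve_right
      fun h => hnNC (h ▸ inf_le_right)
    obtain ⟨n, hn, c, hc, rfl⟩ := hdec g
    have h1 : c * x * c⁻¹ ∈ N := ‹N.Normal›.conj_mem x hx.1 c
    rw [show n * c * x * (n * c)⁻¹ = n * (c * x * c⁻¹) * n⁻¹ by group,
      hab n hn _ h1, mul_inv_cancel_right]
    exact C.mul_mem (C.mul_mem hc hx.2) (C.inv_mem hc)
  have hCN : Subgroup.centralizer (N : Set G) ⊓ C = ⊥ := by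
    by_contra hne
    refine hnNC ((hU _ ⟨fun x hx g => ?_⟩ hne).trans inf_le_right)
    obtain ⟨n, hn, c, hc, rfl⟩ := hdec g
    have h1 : c * x * c⁻¹ ∈ Subgroup.centralizer (N : Set G) := by
      rw [Subgroup.mem_centralizer_iff]
      intro m hm
      have h2 : c⁻¹ * m * c ∈ N := by simpa using ‹N.Normal›.conj_mem m hm c⁻¹
      have h3 := Subgroup.mem_centralizer_iff.1 hx.1 _ h2
      calc m * (c * x * c⁻¹) = c * ((c⁻¹ * m * c) * x) * c⁻¹ := by group
        _ = c * (x * (c⁻¹ * m * c)) * c⁻¹ := by rw [h3]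
        _ = c * x * c⁻¹ * m := by group
    rw [show n * c * x * (n * c)⁻¹ = n * (c * x * c⁻¹) * n⁻¹ by group,
      Subgroup.mem_centralizer_iff.1 h1 n hn, mul_inv_cancel_right]
    exact ⟨h1, C.mul_mem (C.mul_mem hc hx.2) (C.inv_mem hc)⟩
  let ρ : C →* MulAut (N →* ℂˣ) := (DegreesPrime.act N).comp C.subtype
  have hρ : Function.Injective ρ := (injective_iff_map_eq_one ρ).2 fun c hc => by
    have h1 : (c : G) ∈ Subgroup.centralizer (N : Set G) ⊓ C :=
      ⟨(DegreesPrime.act_eq_one_iff N hab (c : G)).1 hc, c.2⟩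
    rw [hCN, Subgroup.mem_bot] at h1
    exact Subtype.ext h1
  have hirr : ∀ W : Subgroup (N →* ℂˣ), (∀ g, ∀ v ∈ W, ρ g v ∈ W) → W = ⊥ ∨ W = ⊤ := by
    intro W hW
    refine irreducible_dual N hab hNmin W fun g v hv => ?_
    obtain ⟨n, hn, c, hc, rfl⟩ := hdec g
    rw [map_mul, (DegreesPrime.act_eq_one_iff N hab n).2
      (Subgroup.mem_centralizer_iff.2 fun m hm => hab m hm n hn), one_mul]
    exact hW ⟨c, hc⟩ v hv
  have hstab : ∀ (l : N →* ℂˣ) (x : C),
      x ∈ (inertia fun n : N => (l n : ℂ)).subgroupOf C ↔ ρ x l = l := fun l x => by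
    rw [Subgroup.mem_subgroupOf]
    exact (act_fix_iff N (x : G) l).symm
  obtain ⟨π, hπker, hπid, -⟩ := exists_retraction N C hsup hinf
  have hcardC : Nat.card C = N.index := by
    rw [← hπker, Subgroup.index_ker, show π.range = ⊤ from MonoidHom.range_eq_top.2 fun h => ⟨(h : G), hπid h⟩, Subgroup.card_top]
  haveI := finite_dual N
  haveI := nontrivial_dual N hab hN1
  obtain ⟨χ, d, hχ, hd, hdvd⟩ := exists_degree (hom_pow N hexp) ρ hρ hirr hqr (hcardC ▸ hqN)
    (hcardC ▸ hrN)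
    (fun v hv => exists_unique_fix ρ v (hstab v) (stab_spec N C hsup hinf v hv hnq).1
      (stab_spec N C hsup hinf v hv hnq).2)
    (fun v hv => exists_unique_fix ρ v (hstab v) (stab_spec N C hsup hinf v hv hnr).1
      (stab_spec N C hsup hinf v hv hnr).2)
    (fun v hv Q R hQ hR => commute_of_noDeg hqr (stab_spec N C hsup hinf v hv hnq).1
      (stab_spec N C hsup hinf v hv hnq).2 (stab_spec N C hsup hinf v hv hnr).1
      (stab_spec N C hsup hinf v hv hnr).2 (fun x hx => (hstab v x).2 (hQ x hx))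
      (fun x hx => (hstab v x).2 (hR x hx)))
  exact hno _ (IsIrrCharacter.comp_surjective hχ π fun h => ⟨h, hπid h⟩) d (by rw [map_one, hd]) hdvd

end CfsgLib.PalfyThree
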