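import Mathlib
import Cfsg.Agent.Char.DegreeSums
import Cfsg.Agent.Char.CliffordCorrespondence
import Cfsg.Agent.Char.DegreesPrime

/-!
Degree sums over a central character and Sylow subgroups carrying equal weights.
-/

set_option autoImplicit false
set_option linter.style.haveILetI false
set_option linter.unusedSectionVars false

namespace CfsgLib.PalfyThree

open CfsgLib.Char

universe u

/-- The squared degrees of the characters over a linear character of a central subgroup add up to
the index. -/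
theorem sum_sq_over {A : Type u} [Group A] [Fintype A] (Z : Subgroup A) (hz : Z ≤ Subgroup.center A)
    (l : Z →* ℂˣ) [DecidablePred fun θ : A → ℂ => ∀ z : Z, θ z = θ 1 * (l z : ℂ)] :
    ∑ θ ∈ (irrFinset A).filter (fun θ : A → ℂ => ∀ z : Z, θ z = θ 1 * (l z : ℂ)), cdeg θ ^ 2 = Z.index := by
  classical
  haveI : Z.Normal := ⟨fun n hn g => by
    rwa [Subgroup.mem_center_iff.1 (hz hn) g, mul_inv_cancel_right]⟩
  haveI := Fintype.ofFinite Z
  have hlirr := isIrrCharacter_ofHom l
  have h := congrFun (eq_sum_irr (isClassFunction_indFun Z fun z => (l z : ℂ))) 1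
  have h1 : Cfsg.indFun Z (fun z => (l z : ℂ)) (1 : A) = (Z.index : ℂ) := by
    rw [indFun_one, map_one, Units.val_one, mul_one]
  rw [h1, Finset.sum_apply] at h
  have h2 : ∀ θ ∈ irrFinset A,
      (Cfsg.classInner (Cfsg.indFun Z fun z => (l z : ℂ)) θ • θ) 1 =
        (((if ∀ z : Z, θ z = θ 1 * (l z : ℂ) then cdeg θ ^ 2 else 0 : ℕ)) : ℂ) := by
    intro θ hθ
    have hθ' := mem_irrFinset.1 hθ
    rw [Pi.smul_apply, smul_eq_mul, classInner_indFun _ (IsIrrCharacter.isClassFunction hθ')]
    split_ifs with hk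
    · rw [show (fun z : Z => θ z) = (θ 1) • fun z : Z => (l z : ℂ) from funext fun z => hk z,
        classInner_smul_right, IsIrrCharacter.classInner_self hlirr, mul_one,
        irr_apply_one_eq_cdeg hθ', map_natCast]
      push_cast
      ring
    · have h3 : Cfsg.classInner (fun z : Z => (l z : ℂ)) (fun z : Z => θ z) = 0 := by
        by_contra hne
        refine hk fun z => ?_
        have hc : Cfsg.classInner (fun z : Z => θ z) (fun z : Z => (l z : ℂ)) ≠ 0 := by
          rw [← classInner_conj]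
          exact fun h => hne (by simpa using h)
        have horb : conjOrbit (fun z : Z => (l z : ℂ)) = {fun z : Z => (l z : ℂ)} := by
          refine Finset.eq_singleton_iff_unique_mem.2 ⟨self_mem_conjOrbit _, fun ψ hψ => ?_⟩
          obtain ⟨g, rfl⟩ := mem_conjOrbit.1 hψ
          funext y
          rw [conjOn_apply]
          congr 2
          apply Subtype.ext
          show g * (y : A) * g⁻¹ = y
          rw [Subgroup.mem_center_iff.1 (hz y.2) g, mul_inv_cancel_right]
        have hr := restrict_eq_smul_sum hθ' hlirr hc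
        rw [horb, Finset.sum_singleton] at hr
        have ha := congrFun hr z
        have hb := congrFun hr 1
        simp only [Pi.smul_apply, OneMemClass.coe_one, smul_eq_mul, map_one, Units.val_one,
          mul_one] at ha hb
        rw [ha, hb]
      rw [h3, zero_mul, Nat.cast_zero]
  rw [Finset.sum_congr rfl h2, ← Nat.cast_sum, Nat.cast_inj, ← Finset.sum_filter] at h
  exact h.symm

variable {K : Type u} [Group K] [Finite K] {q : ℕ} [Fact q.Prime]

/-- A `q`-element of a subgroup of index prime to `q` lies in one of its Sylow subgroups. -/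
theorem exists_sylow_le_mem {T : Subgroup K} (hT : ¬ q ∣ T.index) {x : K} (hx : x ∈ T) {k : ℕ}
    (hk : x ^ q ^ k = 1) : ∃ Q : Sylow q K, (Q : Subgroup K) ≤ T ∧ x ∈ (Q : Subgroup K) := by
  have hz : IsPGroup q (Subgroup.zpowers (⟨x, hx⟩ : T)) := by
    obtain ⟨i, -, hi⟩ := (Nat.dvd_prime_pow (Fact.out : q.Prime)).1 (orderOf_dvd_of_pow_eq_one hk)
    exact IsPGroup.of_card (n := i) (by rw [Nat.card_zpowers, Subgroup.orderOf_mk, hi])
  obtain ⟨S, hS⟩ := hz.exists_le_sylow
  have hidx : ¬ q ∣ ((S : Subgroup T).map T.subtype).index := by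
    rw [Subgroup.index_map_subtype]
    exact (Fact.out : q.Prime).not_dvd_mul S.not_dvd_index hT
  exact ⟨(S.2.map T.subtype).toSylow hidx, Subgroup.map_subtype_le _,
    ⟨_, hS (Subgroup.mem_zpowers _), rfl⟩⟩

/-- If the Sylow subgroups in `T` carry equal non-zero weights with total a power of a prime not
dividing the order, there is only one of them. -/
theorem eq_of_weight [Fintype (Sylow q K)] {T : Subgroup K} {p m : ℕ} [Fact p.Prime]
    (hp : ¬ p ∣ Nat.card K) (W : Sylow q K → ℕ)
    [DecidablePred fun Q : Sylow q K => (Q : Subgroup K) ≤ T]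
    (hW : ∀ (Q : Sylow q K), (Q : Subgroup K) ≤ T → ∀ t ∈ T, W (t • Q) = W Q)
    (hsum : ∑ Q ∈ Finset.univ.filter (fun Q : Sylow q K => (Q : Subgroup K) ≤ T), W Q = p ^ m)
    (Q Q' : Sylow q K) (hQ : (Q : Subgroup K) ≤ T) (hQ' : (Q' : Subgroup K) ≤ T) : Q = Q' := by
  classical
  have hconj : ∀ Q₂ : Sylow q K, (Q₂ : Subgroup K) ≤ T → ∃ t ∈ T, t • Q = Q₂ := by
    intro Q₂ hQ₂
    obtain ⟨t, ht⟩ := MulAction.exists_smul_eq T (Q.subtype hQ) (Q₂.subtype hQ₂)
    rw [Sylow.smul_subtype] at ht
    exact ⟨t, t.2, Sylow.subtype_injective ht⟩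
  have hindex : ¬ q ∣ T.index := fun h =>
    Q.not_dvd_index (h.trans (Subgroup.index_dvd_of_le hQ))
  set S := Finset.univ.filter (fun Q : Sylow q K => (Q : Subgroup K) ≤ T) with hS
  have hmem : ∀ {Q₂ : Sylow q K}, Q₂ ∈ S ↔ (Q₂ : Subgroup K) ≤ T := fun {Q₂} => by
    rw [hS, Finset.mem_filter]
    exact and_iff_right (Finset.mem_univ _)
  rw [Finset.sum_congr rfl (g := fun _ => W Q) fun Q₂ hQ₂ => by
    obtain ⟨t, ht, rfl⟩ := hconj Q₂ (hmem.1 hQ₂)
    exact hW Q hQ t ht, Finset.sum_const, smul_eq_mul] at hsum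
  have hcard : S.card = Nat.card (Sylow q T) := by
    rw [← Nat.card_eq_finsetCard]
    refine Nat.card_congr (Equiv.ofBijective (fun Q₂ => (Q₂ : Sylow q K).subtype (hmem.1 Q₂.2))
      ⟨fun a b h => Subtype.ext (Sylow.subtype_injective h), fun S' => ?_⟩)
    have hidx : ¬ q ∣ ((S' : Subgroup T).map T.subtype).index := by
      rw [Subgroup.index_map_subtype]
      exact (Fact.out : q.Prime).not_dvd_mul S'.not_dvd_index hindex
    refine ⟨⟨(S'.2.map T.subtype).toSylow hidx, hmem.2 (Subgroup.map_subtype_le _)⟩, Sylow.ext ?_⟩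
    exact Subgroup.comap_map_eq_self_of_injective Subtype.coe_injective _
  obtain ⟨j, -, hj⟩ := (Nat.dvd_prime_pow (Fact.out : p.Prime)).1
    (hsum ▸ dvd_mul_right S.card (W Q))
  have h1 : S.card = 1 := by
    rw [hj]
    rcases Nat.eq_zero_or_pos j with rfl | hj0
    · exact pow_zero p
    refine absurd ?_ hp
    refine (dvd_pow_self p hj0.ne').trans ?_
    rw [← hj, hcard]
    obtain ⟨S₀⟩ : Nonempty (Sylow q T) := inferInstance
    exact (S₀.card_dvd_index.trans (Subgroup.index_dvd_card _)).trans T.card_subgroup_dvd_card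
  exact Finset.card_le_one.1 h1.le Q (hmem.2 hQ) Q' (hmem.2 hQ')

end CfsgLib.PalfyThree
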