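import Mathlib
import Cfsg.Agent.PalfyThree.Drop
import Cfsg.Agent.PalfyThree.Dual
import Cfsg.Agent.PalfyThree.Weight

/-!
Pálfy's three primes theorem, the case of a minimal normal `p`-subgroup: stabilisers in a complement.
-/

set_option autoImplicit false
set_option linter.style.haveILetI false
set_option linter.unusedSectionVars false

namespace CfsgLib.PalfyThree

open CfsgLib.Char
open scoped commutatorElement

universe u

variable {G : Type u} [Group G]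

/-- The characters nontrivial on `N` have degree prime to `q`. -/
def NoDegOver (N : Subgroup G) (q : ℕ) : Prop :=
  ∀ χ : G → ℂ, Cfsg.IsIrrCharacter G χ → (∃ n ∈ N, χ n ≠ χ 1) → ∀ d : ℕ, χ 1 = d → ¬ q ∣ d

/-- A normal `p`-subgroup of index prime to `p`, a minimal normal subgroup in it, and a complement. -/
structure Setup (G : Type u) [Group G] (p : ℕ) (N P H : Subgroup G) : Prop where
  le : N ≤ P
  isPGroup : IsPGroup p P
  not_dvd : ¬ p ∣ P.index
  unique : ∀ M : Subgroup G, M.Normal → M ≠ ⊥ → N ≤ M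
  ne_bot : N ≠ ⊥
  abelian : ∀ a ∈ N, ∀ b ∈ N, a * b = b * a
  exponent : ∀ x ∈ N, x ^ p = 1
  derived : ⁅P, P⁆ = N
  central : ∀ n ∈ N, ∀ x ∈ P, n * x = x * n
  sup : P ⊔ H = ⊤
  inf : P ⊓ H = ⊥
  card : Nat.card H = P.index

variable {p : ℕ} {N P H : Subgroup G}

theorem Setup.not_dvd_card [Finite G] (S : Setup G p N P H) : ¬ p ∣ Nat.card H := by
  rw [S.card]; exact S.not_dvd

/-- The stabiliser in `H` of a function on a normal subgroup. -/
def stabIn (H : Subgroup G) {X : Subgroup G} [X.Normal] (θ : X → ℂ) : Subgroup H :=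
  (inertia θ).subgroupOf H

theorem mem_stabIn {X : Subgroup G} [X.Normal] {θ : X → ℂ} {x : H} :
    x ∈ stabIn H θ ↔ (x : G) ∈ inertia θ := Iff.rfl

/-- The stabiliser in `H` of a linear character. -/
abbrev stabHom (H : Subgroup G) {X : Subgroup G} [X.Normal] (l : X →* ℂˣ) : Subgroup H :=
  stabIn H fun n : X => (l n : ℂ)

/-- A character of `P` lies over a linear character of `N`. -/
def Over (h : N ≤ P) (θ : P → ℂ) (l : N →* ℂˣ) : Prop :=
  ∀ n : N, θ ⟨n, h n.2⟩ = θ 1 * (l n : ℂ)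

variable [N.Normal] [P.Normal]

theorem Over.stab_le {h : N ≤ P} {θ : P → ℂ} (hθ : Cfsg.IsIrrCharacter P θ) {l : N →* ℂˣ}
    (ho : Over h θ l) : stabIn H θ ≤ stabHom H l := fun x hx => by
  rw [mem_stabIn, mem_inertia_iff] at hx ⊢
  intro n
  have h1 := hx ⟨n, h n.2⟩
  have h2 := ho ⟨(x : G) * n * (x : G)⁻¹, ‹N.Normal›.conj_mem n n.2 x⟩
  rw [ho n] at h1
  rw [h2] at h1
  exact mul_left_cancel₀ (IsIrrCharacter.apply_one_ne_zero hθ) h1

theorem Over.conjOn_mem {h : N ≤ P} {θ : P → ℂ} {l : N →* ℂˣ} (ho : Over h θ l) {g : G}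
    (hg : g ∈ inertia fun n : N => (l n : ℂ)) : Over h (conjOn g θ) l := fun n => by
  rw [conjOn_apply, conjOn_apply_one, ← (mem_inertia_iff _ g).1 hg n]
  exact ho ⟨g * n * g⁻¹, ‹N.Normal›.conj_mem n n.2 g⟩

theorem mem_stabIn_conjOn [Finite G] {X : Subgroup G} [X.Normal] (θ : X → ℂ) (t x : H) :
    x ∈ stabIn H (conjOn (t : G) θ) ↔ t * x * t⁻¹ ∈ stabIn H θ := by
  rw [mem_stabIn, mem_stabIn, mem_inertia, mem_inertia, conjOn_conjOn, Subgroup.coe_mul,
    Subgroup.coe_mul, Subgroup.coe_inv]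
  constructor
  · intro h
    rw [mul_assoc, ← mul_assoc (t : G), ← conjOn_conjOn, h, conjOn_conjOn, mul_inv_cancel, conjOn_one]
  · intro h
    conv_rhs => rw [← h, conjOn_conjOn, inv_mul_cancel_right]

theorem Setup.exists_over_hom (S : Setup G p N P H) [Fintype G] [Fact p.Prime] (l : N →* ℂˣ) :
    ∃ m, ∃ T : Finset (P → ℂ), (∀ θ, θ ∈ T ↔ Cfsg.IsIrrCharacter P θ ∧ Over S.le θ l) ∧
      ∑ θ ∈ T, cdeg θ ^ 2 = p ^ m ∧ T.Nonempty := by
  classical
  haveI := Fintype.ofFinite P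
  let e := Subgroup.subgroupOfEquivOfLe S.le
  have hz : N.subgroupOf P ≤ Subgroup.center P := fun n hn => Subgroup.mem_center_iff.2 fun x =>
    Subtype.ext (S.central _ (Subgroup.mem_subgroupOf.1 hn) x x.2).symm
  have h := sum_sq_over (N.subgroupOf P) hz (l.comp e.toMonoidHom)
  refine ⟨?_, _, fun θ => ?_, h.trans ?_, ?_⟩
  rotate_left
  · rw [Finset.mem_filter, mem_irrFinset]
    exact and_congr_right fun _ => ⟨fun h' n => h' ⟨⟨n, S.le n.2⟩, Subgroup.mem_subgroupOf.2 n.2⟩,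
      fun h' z => h' ⟨((z : P) : G), Subgroup.mem_subgroupOf.1 z.2⟩⟩
  · exact (Classical.choose_spec (S.isPGroup.index (N.subgroupOf P)))
  · refine Finset.nonempty_of_sum_ne_zero (f := fun θ => cdeg θ ^ 2) ?_
    rw [h]
    exact Subgroup.index_ne_zero_of_finite

/-- The stabiliser of a character over a nontrivial linear character. -/
theorem Setup.stab_spec (S : Setup G p N P H) [Fintype G] [Fact p.Prime] {q : ℕ} [Fact q.Prime]
    (hnq : NoDegOver N q) {θ : P → ℂ} (hθ : Cfsg.IsIrrCharacter P θ) {l : N →* ℂˣ} (hl : l ≠ 1)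
    (ho : Over S.le θ l) : ¬ q ∣ (stabIn H θ).index ∧ NoDeg (stabIn H θ) q := by
  classical
  haveI := Fintype.ofFinite P
  have hcop : (Nat.card P).Coprime P.index := by
    obtain ⟨k, hk⟩ := IsPGroup.iff_card.1 S.isPGroup
    rw [hk]
    exact Nat.Coprime.pow_left k ((Fact.out : p.Prime).coprime_iff_not_dvd.2 S.not_dvd)
  obtain ⟨E, hE, hEX⟩ := exists_coprime_extension P hcop hθ
  refine inertia_noDeg P H S.sup S.inf hθ hE hEX fun χ hχ hc => hnq χ hχ ?_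
  obtain ⟨n, hn⟩ : ∃ n, l n ≠ 1 := by
    by_contra! h
    exact hl (MonoidHom.ext h)
  refine nontrivial_of_constituent hχ hθ hc N ⟨⟨n, S.le n.2⟩, n.2, fun h => hn (Units.ext ?_)⟩
  rw [ho n, mul_eq_left₀ (IsIrrCharacter.apply_one_ne_zero hθ)] at h
  exact h.trans Units.val_one.symm

/-- A nontrivial linear character of `N` is fixed by one Sylow subgroup of `H`, fixing all
characters over it. -/
theorem Setup.exists_sylow (S : Setup G p N P H) [Fintype G] [Group.IsSolvable G] [Fact p.Prime] {q : ℕ}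
    [Fact q.Prime] (hnq : NoDegOver N q) (l : N →* ℂˣ) (hl : l ≠ 1) :
    ∃ Q : Sylow q H, (Q : Subgroup H) ≤ stabHom H l ∧
      (∀ Q' : Sylow q H, (Q' : Subgroup H) ≤ stabHom H l → Q' = Q) ∧
      ∀ θ : P → ℂ, Cfsg.IsIrrCharacter P θ → Over S.le θ l → (Q : Subgroup H) ≤ stabIn H θ := by
  classical
  haveI := Fintype.ofFinite (Sylow q H)
  obtain ⟨m, T, hT, hsum, θ₀, hθ₀⟩ := S.exists_over_hom l
  have hex : ∀ θ ∈ T, ∃ Q : Sylow q H, (Q : Subgroup H) ≤ stabIn H θ ∧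
      ∀ Q' : Sylow q H, (Q' : Subgroup H) ≤ stabIn H θ → Q' = Q := fun θ hθ => by
    obtain ⟨Q, h1, -, -, h2⟩ := sylow_of_noDeg (S.stab_spec hnq ((hT θ).1 hθ).1 hl ((hT θ).1 hθ).2).1
      (S.stab_spec hnq ((hT θ).1 hθ).1 hl ((hT θ).1 hθ).2).2
    exact ⟨Q, h1, h2⟩
  have hle : ∀ θ ∈ T, stabIn H θ ≤ stabHom H l := fun θ hθ =>
    ((hT θ).1 hθ).2.stab_le ((hT θ).1 hθ).1
  choose! f hf hfu using hex
  let W : Sylow q H → ℕ := fun Q =>
    ∑ θ ∈ T.filter (fun θ => (Q : Subgroup H) ≤ stabIn H θ), cdeg θ ^ 2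
  have hsmul : ∀ (t : H) (Q : Sylow q H) (θ : P → ℂ),
      ((t • Q : Sylow q H) : Subgroup H) ≤ stabIn H θ ↔
        (Q : Subgroup H) ≤ stabIn H (conjOn (t : G) θ) := fun t Q θ => by
    have hmem : ∀ x : H, x ∈ ((t • Q : Sylow q H) : Subgroup H) ↔ t⁻¹ * x * t ∈ (Q : Subgroup H) :=
      fun x => by
        rw [Sylow.coe_subgroup_smul, Subgroup.mem_pointwise_smul_iff_inv_smul_mem, MulAut.smul_def,
          MulAut.conj_inv_apply]
    constructor
    · intro h x hx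
      rw [mem_stabIn_conjOn]
      refine h ((hmem _).2 ?_)
      rwa [show t⁻¹ * (t * x * t⁻¹) * t = x by group]
    · intro h x hx
      have h1 := h ((hmem x).1 hx)
      rwa [mem_stabIn_conjOn, show t * (t⁻¹ * x * t) * t⁻¹ = x by group] at h1
  have hTconj : ∀ θ ∈ T, ∀ t ∈ stabHom H l, conjOn (t : G) θ ∈ T := fun θ hθ t ht =>
    (hT _).2 ⟨isIrrCharacter_conjOn ((hT θ).1 hθ).1 _, ((hT θ).1 hθ).2.conjOn_mem ht⟩
  have hW : ∀ (Q : Sylow q H), (Q : Subgroup H) ≤ stabHom H l → ∀ t ∈ stabHom H l,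
      W (t • Q) = W Q := by
    intro Q _ t ht
    refine Finset.sum_nbij' (fun θ => conjOn (t : G) θ) (fun θ => conjOn ((t⁻¹ : H) : G) θ)
      (fun θ hθ => ?_) (fun θ hθ => ?_) (fun θ hθ => ?_) (fun θ hθ => ?_) (fun θ hθ => ?_)
    · simp only [Finset.mem_filter] at hθ ⊢
      exact ⟨hTconj θ hθ.1 t ht, (hsmul t Q θ).1 hθ.2⟩
    · simp only [Finset.mem_filter] at hθ ⊢
      refine ⟨hTconj θ hθ.1 _ (inv_mem ht), (hsmul t Q _).2 ?_⟩
      rw [conjOn_conjOn, Subgroup.coe_inv, inv_mul_cancel, conjOn_one]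
      exact hθ.2
    · rw [conjOn_conjOn, Subgroup.coe_inv, mul_inv_cancel, conjOn_one]
    · rw [conjOn_conjOn, Subgroup.coe_inv, inv_mul_cancel, conjOn_one]
    · show cdeg θ ^ 2 = cdeg (conjOn (t : G) θ) ^ 2
      rw [cdeg_eq_of_apply_one (conjOn_apply_one (t : G) θ)]
  have htot : ∑ Q ∈ Finset.univ.filter (fun Q : Sylow q H => (Q : Subgroup H) ≤ stabHom H l), W Q =
      p ^ m := by
    rw [← hsum, ← Finset.sum_fiberwise_of_maps_to
      (t := Finset.univ.filter fun Q : Sylow q H => (Q : Subgroup H) ≤ stabHom H l) (g := f)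
      fun θ hθ => Finset.mem_filter.2 ⟨Finset.mem_univ _, (hf θ hθ).trans (hle θ hθ)⟩]
    refine Finset.sum_congr rfl fun Q _ => Finset.sum_congr (Finset.filter_congr fun θ hθ => ?_)
      fun _ _ => rfl
    exact ⟨fun h => (hfu θ hθ Q h).symm, fun h => h ▸ hf θ hθ⟩
  have hQ₀ : (f θ₀ : Subgroup H) ≤ stabHom H l := (hf θ₀ hθ₀).trans (hle θ₀ hθ₀)
  have hu : ∀ Q' : Sylow q H, (Q' : Subgroup H) ≤ stabHom H l → Q' = f θ₀ := fun Q' hQ' =>
    eq_of_weight S.not_dvd_card W hW htot Q' (f θ₀) hQ' hQ₀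
  refine ⟨f θ₀, hQ₀, hu, fun θ hθ ho => ?_⟩
  have hmem := (hT θ).2 ⟨hθ, ho⟩
  rw [← hu (f θ) ((hf θ hmem).trans (hle θ hmem))]
  exact hf θ hmem

end CfsgLib.PalfyThree
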