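import Mathlib
import Cfsg.Agent.PalfyThree.Stabilizer
import Cfsg.Agent.Char.ScalarIndex
import Cfsg.Agent.Char.LinearTwist
import Cfsg.Agent.Solvable.Fitting

/-!
Pálfy's three primes theorem: the fixed points of a normal `q`-subgroup of the complement.
-/

set_option autoImplicit false
set_option linter.style.haveILetI false
set_option linter.unusedSectionVars false

namespace CfsgLib.PalfyThree

open CfsgLib.Char
open scoped commutatorElement

universe u

variable {G : Type u} [Group G]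

/-- An element whose conjugate differs from it by a fixed factor of coprime order is fixed. -/
theorem eq_one_of_conj_eq {a y u : G} (h : a * y * a⁻¹ = y * u) (hau : a * u = u * a)
    (hcop : (orderOf a).Coprime (orderOf u)) : u = 1 := by
  have hpow : ∀ k : ℕ, a ^ k * y * (a ^ k)⁻¹ = y * u ^ k := by
    intro k
    induction k with
    | zero => simp
    | succ k ih =>
      calc a ^ (k + 1) * y * (a ^ (k + 1))⁻¹ = a * (a ^ k * y * (a ^ k)⁻¹) * a⁻¹ := by
            rw [pow_succ']; group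
        _ = a * (y * u ^ k) * a⁻¹ := by rw [ih]
        _ = a * y * a⁻¹ * (a * u ^ k * a⁻¹) := by group
        _ = y * u * u ^ k := by
            rw [h, ((show Commute a u from hau).pow_right k).eq, mul_inv_cancel_right]
        _ = y * u ^ (k + 1) := by rw [pow_succ', mul_assoc]
  have h1 := hpow (orderOf a)
  rw [pow_orderOf_eq_one, one_mul, inv_one, mul_one, eq_comm, mul_eq_left] at h1
  exact orderOf_eq_one_iff.1 (Nat.eq_one_of_dvd_coprimes hcop (orderOf_dvd_of_pow_eq_one h1) dvd_rfl)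

variable {p : ℕ} {N P H : Subgroup G}

theorem Setup.bracket_mem (S : Setup G p N P H) {x y : G} (hx : x ∈ P) (hy : y ∈ P) : ⁅x, y⁆ ∈ N := by
  rw [← S.derived]
  exact Subgroup.commutator_mem_commutator hx hy

/-- Commutation with an element of `P`. -/
def Setup.bracket (S : Setup G p N P H) (w : P) : P →* N :=
  MonoidHom.mk' (fun x => ⟨⁅(w : G), (x : G)⁆, S.bracket_mem w.2 x.2⟩) fun a b => by
    apply Subtype.ext
    show ⁅(w : G), (a : G) * b⁆ = ⁅(w : G), (a : G)⁆ * ⁅(w : G), (b : G)⁆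
    have h : ⁅(w : G), (a : G) * b⁆ =
        ⁅(w : G), (a : G)⁆ * ((a : G) * ⁅(w : G), (b : G)⁆ * (a : G)⁻¹) := by
      simp only [commutatorElement_def]; group
    rw [h, ← S.central _ (S.bracket_mem w.2 b.2) _ a.2, mul_inv_cancel_right]

theorem Setup.bracket_apply (S : Setup G p N P H) (w x : P) :
    ((S.bracket w x : N) : G) = ⁅(w : G), (x : G)⁆ := rfl

variable [N.Normal] [P.Normal]

/-- The complement acts faithfully on `P`. -/
theorem Setup.faithful (S : Setup G p N P H) : H ⊓ Subgroup.centralizer (P : Set G) = ⊥ := by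
  by_contra hne
  refine S.ne_bot (le_bot_iff.1 ?_)
  rw [← S.inf]
  refine le_inf S.le ((S.unique _ ⟨fun k hk g => ?_⟩ hne).trans inf_le_left)
  obtain ⟨x, hx, h, hh, rfl⟩ := Subgroup.mem_sup_of_normal_left.1 (S.sup ▸ Subgroup.mem_top g)
  have h1 : h * k * h⁻¹ ∈ Subgroup.centralizer (P : Set G) := by
    rw [Subgroup.mem_centralizer_iff]
    intro m hm
    have h2 : h⁻¹ * m * h ∈ P := by simpa using ‹P.Normal›.conj_mem m hm h⁻¹
    have h3 := Subgroup.mem_centralizer_iff.1 hk.2 _ h2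
    calc m * (h * k * h⁻¹) = h * ((h⁻¹ * m * h) * k) * h⁻¹ := by group
      _ = h * (k * (h⁻¹ * m * h)) * h⁻¹ := by rw [h3]
      _ = h * k * h⁻¹ * m := by group
  rw [show x * h * k * (x * h)⁻¹ = x * (h * k * h⁻¹) * x⁻¹ by group,
    Subgroup.mem_centralizer_iff.1 h1 x hx, mul_inv_cancel_right]
  exact ⟨H.mul_mem (H.mul_mem hh hk.1) (H.inv_mem hh), h1⟩

/-- The fixed points in `P` of the largest normal `q`-subgroup of `H`. -/
def fixPart (q : ℕ) (P H : Subgroup G) : Subgroup G :=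
  P ⊓ Subgroup.centralizer (((Cfsg.pCore q H).map H.subtype : Subgroup G) : Set G)

theorem mem_fixPart {q : ℕ} {y : G} :
    y ∈ fixPart q P H ↔ y ∈ P ∧ ∀ a ∈ Cfsg.pCore q H, (a : G) * y = y * a := by
  rw [fixPart, Subgroup.mem_inf, Subgroup.mem_centralizer_iff]
  refine and_congr_right fun _ => ⟨fun h a ha => h a ⟨a, ha, rfl⟩, ?_⟩
  rintro h _ ⟨a, ha, rfl⟩
  exact h a ha

variable [Finite G] [Fact p.Prime]

theorem Setup.orderOf_eq_pow (S : Setup G p N P H) {y : G} (hy : y ∈ P) :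
    ∃ k, orderOf y = p ^ k := by
  obtain ⟨k, hk⟩ := S.isPGroup ⟨y, hy⟩
  obtain ⟨i, -, hi⟩ := (Nat.dvd_prime_pow (Fact.out : p.Prime)).1 (orderOf_dvd_of_pow_eq_one hk)
  exact ⟨i, by rw [← hi, Subgroup.orderOf_mk]⟩

theorem Setup.eq_one_of_coprime (S : Setup G p N P H) {a : H} {y u : G} (hu : u ∈ P)
    (h : (a : G) * y * (a : G)⁻¹ = y * u) (hau : (a : G) * u = u * a) : u = 1 := by
  obtain ⟨k, hk⟩ := S.orderOf_eq_pow hu
  refine eq_one_of_conj_eq h hau ?_
  rw [hk, Subgroup.orderOf_coe]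
  exact (((Fact.out : p.Prime).coprime_iff_not_dvd.2 fun hd =>
    S.not_dvd_card (hd.trans (orderOf_dvd_natCard a))).pow_left k).symm

variable [Group.IsSolvable G] {q : ℕ} [Fact q.Prime]

theorem Setup.pCore_stab (S : Setup G p N P H) (hnq : NoDegOver N q) {a : H}
    (ha : a ∈ Cfsg.pCore q H) {l : N →* ℂˣ} (hl : l ≠ 1) :
    a ∈ stabHom H l ∧ ∀ θ : P → ℂ, Cfsg.IsIrrCharacter P θ → Over S.le θ l → a ∈ stabIn H θ := by
  haveI := Fintype.ofFinite G
  obtain ⟨Q, hQ, -, hQθ⟩ := S.exists_sylow hnq l hl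
  exact ⟨hQ (Fitting.pCore_le_sylow Q ha), fun θ hθ ho => hQθ θ hθ ho (Fitting.pCore_le_sylow Q ha)⟩

theorem Setup.pCore_centralizes (S : Setup G p N P H) (hnq : NoDegOver N q) {a : H}
    (ha : a ∈ Cfsg.pCore q H) {n : G} (hn : n ∈ N) : (a : G) * n = n * a := by
  haveI := Fintype.ofFinite G
  have h : DegreesPrime.act N (a : G) = 1 := MulEquiv.ext fun l => by
    rw [MulAut.one_apply]
    by_cases hl : l = 1
    · rw [hl, map_one]
    · exact (act_fix_iff N (a : G) l).2 (S.pCore_stab hnq ha hl).1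
  exact ((Subgroup.mem_centralizer_iff.1 ((DegreesPrime.act_eq_one_iff N S.abelian (a : G)).1 h)) n hn).symm

theorem Setup.le_fixPart (S : Setup G p N P H) (hnq : NoDegOver N q) : N ≤ fixPart q P H :=
  fun n hn => mem_fixPart.2 ⟨S.le hn, fun _ ha => S.pCore_centralizes hnq ha hn⟩

/-- An element of `P` whose commutators die under a nontrivial character of `N` is fixed. -/
theorem Setup.mem_fixPart_of_bracket (S : Setup G p N P H) (hnq : NoDegOver N q) {l : N →* ℂˣ}
    (hl : l ≠ 1) (y : P) (hy : ∀ x : P, l (S.bracket y x) = 1) : (y : G) ∈ fixPart q P H := by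
  classical
  haveI := Fintype.ofFinite G
  haveI := Fintype.ofFinite P
  obtain ⟨m, T, hT, -, θ, hθT⟩ := S.exists_over_hom l
  obtain ⟨hθ, ho⟩ := (hT θ).1 hθT
  have hθy : θ y ≠ 0 := by
    obtain ⟨n, ρ, hρ, hθe⟩ := id hθ
    haveI := hρ
    have hn0 : (n : ℂ) ≠ 0 := by
      have h := IsIrrCharacter.apply_one_ne_zero hθ
      rwa [← hθe, ρ.char_one, Module.finrank_fin_fun] at h
    have hscal : ∀ z : N, ρ ⟨z, S.le z.2⟩ = (l z : ℂ) • (1 : Module.End ℂ (Fin n → ℂ)) := by
      intro z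
      obtain ⟨c, hc⟩ := exists_scalar_of_mem_scalarSubgroup ρ (center_le_scalarSubgroup ρ
        (Subgroup.mem_center_iff.2 fun x : P => Subtype.ext (S.central _ z.2 _ x.2).symm :
          (⟨(z : G), S.le z.2⟩ : P) ∈ Subgroup.center P))
      have h1 := ho z
      rw [← hθe, ρ.char_one, Representation.character, hc, map_smul, LinearMap.trace_one,
        Module.finrank_fin_fun, smul_eq_mul, mul_comm] at h1
      rw [hc, mul_left_cancel₀ hn0 h1]
    have hcomm : ∀ x : P, ρ x * ρ y = ρ y * ρ x := fun x => by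
      have hval : (⟨((S.bracket y x : N) : G), S.le (S.bracket y x).2⟩ : P) * (x * y) = y * x := by
        apply Subtype.ext
        show ⁅(y : G), (x : G)⁆ * ((x : G) * y) = y * x
        rw [commutatorElement_def]; group
      rw [← map_mul, ← map_mul, ← hval, map_mul ρ ⟨((S.bracket y x : N) : G), S.le (S.bracket y x).2⟩ (x * y), hscal (S.bracket y x), hy x, Units.val_one, one_smul, one_mul]
    obtain ⟨c, hc⟩ : ∃ c : ℂ, ρ y = c • (1 : Module.End ℂ (Fin n → ℂ)) :=
      ⟨_, eq_smul_one_of_commute ρ (ρ y) hcomm⟩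
    rw [← hθe, Representation.character, hc, map_smul, LinearMap.trace_one, Module.finrank_fin_fun,
      smul_eq_mul]
    refine mul_ne_zero (fun h0 => hn0 ?_) hn0
    have h1 : ρ y⁻¹ * ρ y = 1 := by rw [← map_mul, inv_mul_cancel, map_one]
    rw [hc, h0, zero_smul, mul_zero] at h1
    have h2 := congrArg (LinearMap.trace ℂ (Fin n → ℂ)) h1.symm
    rwa [map_zero, LinearMap.trace_one, Module.finrank_fin_fun] at h2
  refine mem_fixPart.2 ⟨y.2, fun a ha => ?_⟩
  have hconj : (a : G) * y * (a : G)⁻¹ ∈ P := ‹P.Normal›.conj_mem _ y.2 _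
  have hu : (y : G)⁻¹ * ((a : G) * y * (a : G)⁻¹) ∈ N := by
    have hcl : (commutator P).map P.subtype = N := by rw [Subgroup.map_subtype_commutator, S.derived]
    suffices h : y⁻¹ * ⟨_, hconj⟩ ∈ commutator P by
      exact hcl ▸ ⟨_, h, rfl⟩
    by_contra hnc
    obtain ⟨ψ, hψ⟩ := exists_hom_ne_one hnc
    refine hψ ?_
    have hψN : ∀ n : N, ψ ⟨n, S.le n.2⟩ = 1 := fun n => by
      have h1 : (⟨(n : G), S.le n.2⟩ : P) ∈ commutator P := by
        obtain ⟨z, hz, hzn⟩ := (hcl.symm ▸ n.2 : (n : G) ∈ (commutator P).map P.subtype)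
        rwa [← show z = (⟨(n : G), S.le n.2⟩ : P) from Subtype.ext hzn]
      exact Abelianization.commutator_subset_ker ψ h1
    have hθ' := IsIrrCharacter.mul_hom hθ ψ
    have ho' : Over S.le (θ * fun g => (ψ g : ℂ)) l := fun n => by
      simp only [Pi.mul_apply, hψN n, map_one, Units.val_one, mul_one]
      exact ho n
    have h1 := (mem_inertia_iff _ _).1 ((S.pCore_stab hnq ha hl).2 θ hθ ho) y
    have h2 := (mem_inertia_iff _ _).1 ((S.pCore_stab hnq ha hl).2 _ hθ' ho') y
    simp only [Pi.mul_apply] at h2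
    rw [h1, mul_right_inj' hθy, Units.val_inj] at h2
    rw [map_mul, map_inv]
    exact inv_mul_eq_one.2 h2.symm
  have h := S.eq_one_of_coprime (a := a) (y := y) (S.le hu) (by group)
    (S.pCore_centralizes hnq ha hu)
  rw [inv_mul_eq_one] at h
  calc (a : G) * y = (a : G) * y * (a : G)⁻¹ * a := by group
    _ = y * a := by rw [← h]

theorem Setup.fixPart_normal (S : Setup G p N P H) (hnq : NoDegOver N q) : (fixPart q P H).Normal := by
  refine ⟨fun y hy g => ?_⟩
  obtain ⟨x, hx, h, hh, rfl⟩ := Subgroup.mem_sup_of_normal_left.1 (S.sup ▸ Subgroup.mem_top g)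
  rw [mem_fixPart] at hy
  haveI : (Cfsg.pCore q H).Normal := (Solvable.pCore_spec q).1
  have h1 : h * y * h⁻¹ ∈ fixPart q P H := by
    refine mem_fixPart.2 ⟨‹P.Normal›.conj_mem y hy.1 h, fun a ha => ?_⟩
    have h2 := hy.2 _ ((inferInstance : (Cfsg.pCore q H).Normal).conj_mem a ha ⟨h, hh⟩⁻¹)
    simp only [Subgroup.coe_mul, Subgroup.coe_inv, inv_inv] at h2
    calc (a : G) * (h * y * h⁻¹) = h * (h⁻¹ * a * h * y) * h⁻¹ := by group
      _ = h * (y * (h⁻¹ * a * h)) * h⁻¹ := by rw [h2]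
      _ = h * y * h⁻¹ * a := by group
  rw [show x * h * y * (x * h)⁻¹ = ⁅x, h * y * h⁻¹⁆ * (h * y * h⁻¹) by
    rw [commutatorElement_def]; group]
  exact mul_mem (S.le_fixPart hnq (S.bracket_mem hx (mem_fixPart.1 h1).1)) h1

theorem Setup.pow_mem_fixPart (S : Setup G p N P H) (hnq : NoDegOver N q) {x : G} (hx : x ∈ P) :
    x ^ p ∈ fixPart q P H := by
  haveI := nontrivial_dual N S.abelian S.ne_bot
  obtain ⟨l, hl⟩ := exists_ne (1 : N →* ℂˣ)
  refine S.mem_fixPart_of_bracket hnq hl ⟨x ^ p, P.pow_mem hx p⟩ fun z => ?_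
  have h1 : S.bracket z ⟨x ^ p, P.pow_mem hx p⟩ = 1 := by
    rw [show (⟨x ^ p, P.pow_mem hx p⟩ : P) = (⟨x, hx⟩ : P) ^ p from rfl, map_pow]
    exact Subtype.ext (by simpa using S.exponent _ (S.bracket z ⟨x, hx⟩).2)
  have h2 : S.bracket ⟨x ^ p, P.pow_mem hx p⟩ z = 1 := by
    apply Subtype.ext
    rw [S.bracket_apply, OneMemClass.coe_one, ← commutatorElement_inv,
      ← S.bracket_apply, h1, OneMemClass.coe_one, inv_one]
  rw [h2, map_one]

theorem Setup.mem_fixPart_of_quot (S : Setup G p N P H) (hnq : NoDegOver N q) {y : G} (hy : y ∈ P)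
    (h : ∀ a ∈ Cfsg.pCore q H, y⁻¹ * ((a : G) * y * (a : G)⁻¹) ∈ fixPart q P H) :
    y ∈ fixPart q P H := by
  refine mem_fixPart.2 ⟨hy, fun a ha => ?_⟩
  have h1 := mem_fixPart.1 (h a ha)
  have h2 := S.eq_one_of_coprime (a := a) (y := y) h1.1 (by group) (h1.2 a ha)
  rw [inv_mul_eq_one] at h2
  calc (a : G) * y = (a : G) * y * (a : G)⁻¹ * a := by group
    _ = y * a := by rw [← h2]

/-- When the `q`-core is not trivial, `N` is smaller than the moved part of `P`. -/
theorem Setup.card_lt (S : Setup G p N P H) (hnq : NoDegOver N q) (hQ : Cfsg.pCore q H ≠ ⊥) :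
    Nat.card N < (fixPart q P H).relIndex P := by
  classical
  haveI := Fintype.ofFinite G
  obtain ⟨a, ha, ha1⟩ := (Cfsg.pCore q H).bot_or_exists_ne_one.resolve_left hQ
  obtain ⟨y, hy, hay⟩ : ∃ y ∈ P, (a : G) * y * (a : G)⁻¹ ≠ y := by
    by_contra! h
    refine ha1 (Subtype.ext (Subgroup.mem_bot.1 (S.faithful ▸
      (⟨a.2, Subgroup.mem_centralizer_iff.2 fun m hm => ?_⟩ :
        (a : G) ∈ H ⊓ Subgroup.centralizer (P : Set G)))))
    conv_lhs => rw [← h m hm]
    group
  have hconj : (a : G) * y * (a : G)⁻¹ ∈ P := ‹P.Normal›.conj_mem _ hy _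
  obtain ⟨w, hw⟩ : ∃ w : P, (w : G) = y⁻¹ * ((a : G) * y * (a : G)⁻¹) :=
    ⟨⟨_, P.mul_mem (P.inv_mem hy) hconj⟩, rfl⟩
  have hwD : (w : G) ∉ fixPart q P H := fun hmem => by
    have h1 := S.eq_one_of_coprime (a := a) (y := y) w.2 (by rw [hw]; group)
      ((mem_fixPart.1 hmem).2 a ha)
    rw [hw, inv_mul_eq_one] at h1
    exact hay h1.symm
  have hker : (fixPart q P H).subgroupOf P < (S.bracket w).ker := by
    refine lt_of_le_of_ne (fun x hx => ?_) fun he => hwD ?_
    · rw [Subgroup.mem_subgroupOf, mem_fixPart] at hx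
      rw [MonoidHom.mem_ker]
      apply Subtype.ext
      have hc : ⁅(x : G), y⁆ ∈ N := S.bracket_mem x.2 hy
      have h1 : (a : G) * ⁅(x : G), y⁆ * (a : G)⁻¹ = ⁅(x : G), (a : G) * y * (a : G)⁻¹⁆ := by
        have h3 : (a : G) * x * (a : G)⁻¹ = x := by rw [hx.2 a ha, mul_inv_cancel_right]
        rw [← MulAut.conj_apply, map_commutatorElement, MulAut.conj_apply, MulAut.conj_apply, h3]
      rw [S.pCore_centralizes hnq ha hc, mul_inv_cancel_right] at h1
      rw [S.bracket_apply, OneMemClass.coe_one, commutatorElement_eq_one_iff_mul_comm, hw]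
      have h5 : (x : G) * ((a : G) * y * (a : G)⁻¹) =
          ⁅(x : G), y⁆ * ((a : G) * y * (a : G)⁻¹ * x) := by
        rw [h1, commutatorElement_def]; group
      have h6 : (x : G) * y⁻¹ = y⁻¹ * ⁅(x : G), y⁆⁻¹ * x := by
        rw [commutatorElement_def]; group
      symm
      calc (x : G) * (y⁻¹ * ((a : G) * y * (a : G)⁻¹))
          = (x : G) * y⁻¹ * ((a : G) * y * (a : G)⁻¹) := by group
        _ = y⁻¹ * ⁅(x : G), y⁆⁻¹ * ((x : G) * ((a : G) * y * (a : G)⁻¹)) := by rw [h6]; group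
        _ = y⁻¹ * ((a : G) * y * (a : G)⁻¹) * x := by rw [h5]; group
    · have h1 : w ∈ (S.bracket w).ker := by
        rw [MonoidHom.mem_ker]
        exact Subtype.ext (by rw [S.bracket_apply, commutatorElement_self, OneMemClass.coe_one])
      rw [← he] at h1
      exact h1
  have hrange : (S.bracket w).range = ⊤ := by
    by_contra hne
    haveI : (S.bracket w).range.Normal :=
      ⟨fun m hm g => by
        rwa [show g * m * g⁻¹ = m from Subtype.ext (by
          simp only [Subgroup.coe_mul, Subgroup.coe_inv]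
          rw [S.abelian _ g.2 _ m.2, mul_inv_cancel_right])]⟩
    obtain ⟨n, hn⟩ : ∃ n : N, n ∉ (S.bracket w).range := by
      by_contra! h
      exact hne (eq_top_iff.2 fun n _ => h n)
    have hnc : (n : N ⧸ (S.bracket w).range) ∉ commutator (N ⧸ (S.bracket w).range) := by
      rw [show commutator (N ⧸ (S.bracket w).range) = ⊥ by
        rw [commutator_def, Subgroup.commutator_eq_bot_iff_le_centralizer]
        intro b _ c _
        obtain ⟨b, rfl⟩ := QuotientGroup.mk_surjective b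
        obtain ⟨c, rfl⟩ := QuotientGroup.mk_surjective c
        rw [← QuotientGroup.mk_mul, ← QuotientGroup.mk_mul]
        exact congrArg _ (Subtype.ext (S.abelian c c.2 b b.2)), Subgroup.mem_bot,
        QuotientGroup.eq_one_iff]
      exact hn
    obtain ⟨l₀, hl₀⟩ := exists_hom_ne_one hnc
    refine hwD (S.mem_fixPart_of_bracket hnq (l := l₀.comp (QuotientGroup.mk' _))
      (fun h => hl₀ (DFunLike.congr_fun h n)) w fun x => ?_)
    rw [MonoidHom.comp_apply, QuotientGroup.mk'_apply, (QuotientGroup.eq_one_iff _).2 (MonoidHom.mem_range.2 ⟨x, rfl⟩), map_one]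
  have hcard : (S.bracket w).ker.index = Nat.card N := by
    rw [Subgroup.index_ker, hrange, Subgroup.card_top]
  rw [← hcard]
  show (S.bracket w).ker.index < ((fixPart q P H).subgroupOf P).index
  rw [← Subgroup.relIndex_mul_index hker.le]
  refine lt_mul_left (Nat.pos_of_ne_zero Subgroup.index_ne_zero_of_finite) ?_
  have h2 : ((fixPart q P H).subgroupOf P).relIndex (S.bracket w).ker ≠ 0 :=
    Subgroup.index_ne_zero_of_finite
  have h3 : ((fixPart q P H).subgroupOf P).relIndex (S.bracket w).ker ≠ 1 := fun h =>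
    hker.not_ge (Subgroup.relIndex_eq_one.1 h)
  omega

/-- A nontrivial linear character trivial on the fixed points is moved. -/
theorem Setup.not_fixed (S : Setup G p N P H) (hnq : NoDegOver N q) (μ : P →* ℂˣ) (hμ : μ ≠ 1)
    (hμD : ∀ y : P, (y : G) ∈ fixPart q P H → μ y = 1) : ¬ Cfsg.pCore q H ≤ stabHom H μ := by
  classical
  intro hfix
  haveI := Fintype.ofFinite G
  obtain ⟨y, hy⟩ : ∃ y, μ y ≠ 1 := by
    by_contra! h
    exact hμ (MonoidHom.ext h)
  haveI := S.fixPart_normal hnq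
  obtain ⟨D', hD'⟩ : ∃ D', (fixPart q P H).subgroupOf P = D' := ⟨_, rfl⟩
  haveI : D'.Normal := hD' ▸ Subgroup.normal_subgroupOf
  have hmemD : ∀ z : P, z ∈ D' ↔ (z : G) ∈ fixPart q P H := fun z => by
    rw [← hD', Subgroup.mem_subgroupOf]
  letI : CommGroup (P ⧸ D') :=
    { (inferInstance : Group (P ⧸ D')) with
      mul_comm := by
        intro b c
        obtain ⟨b, rfl⟩ := QuotientGroup.mk_surjective b
        obtain ⟨c, rfl⟩ := QuotientGroup.mk_surjective c
        rw [← QuotientGroup.mk_mul, ← QuotientGroup.mk_mul, QuotientGroup.eq, hmemD]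
        refine S.le_fixPart hnq ?_
        have h : (((b * c)⁻¹ * (c * b) : P) : G) = ⁅((c : P) : G)⁻¹, ((b : P) : G)⁻¹⁆ := by
          simp only [Subgroup.coe_mul, Subgroup.coe_inv, commutatorElement_def]; group
        rw [h]
        exact S.bracket_mem (inv_mem c.2) (inv_mem b.2) }
  let cj : H → (P →* P ⧸ D') := fun b =>
    (QuotientGroup.mk' D').comp (MulAut.conjNormal (b : G) : MulAut P).toMonoidHom
  have hcj : ∀ b, D' ≤ (cj b).ker := fun b z hz => by
    rw [MonoidHom.mem_ker]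
    show ((MulAut.conjNormal (b : G) z : P) : P ⧸ D') = 1
    rw [QuotientGroup.eq_one_iff, hmemD, MulAut.conjNormal_apply]
    exact (S.fixPart_normal hnq).conj_mem _ ((hmemD z).1 hz) _
  let β : H → (P ⧸ D' →* P ⧸ D') := fun b => QuotientGroup.lift D' (cj b) (hcj b)
  let f : Cfsg.pCore q H → P ⧸ D' := fun a => cj (a : H) y
  have hβf : ∀ b a : Cfsg.pCore q H, β (b : H) (f a) = f (b * a) := fun b a => by
    show ((MulAut.conjNormal ((b : H) : G) (MulAut.conjNormal ((a : H) : G) y) : P) : P ⧸ D') =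
      ((MulAut.conjNormal (((b * a : Cfsg.pCore q H) : H) : G) y : P) : P ⧸ D')
    rw [← MulAut.mul_apply, ← map_mul, ← Subgroup.coe_mul, ← Subgroup.coe_mul]
  obtain ⟨z, hz⟩ := QuotientGroup.mk_surjective (∏ a, f a)
  have hzD : z ∈ D' := by
    rw [hmemD]
    refine S.mem_fixPart_of_quot hnq z.2 fun b hb => ?_
    have h1 : β b (∏ a, f a) = ∏ a, f a := by
      rw [map_prod, Finset.prod_congr rfl fun a _ => hβf ⟨b, hb⟩ a]
      exact Fintype.prod_equiv (Equiv.mulLeft _) _ _ fun _ => rfl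
    rw [← hz] at h1
    have h2 : ((MulAut.conjNormal (b : G) z : P) : P ⧸ D') = (z : P ⧸ D') := h1
    have h3 := (hmemD _).1 (QuotientGroup.eq.1 h2.symm)
    rw [Subgroup.coe_mul, Subgroup.coe_inv, MulAut.conjNormal_apply] at h3
    exact h3
  let μ' : P ⧸ D' →* ℂˣ := QuotientGroup.lift D' μ fun z hz =>
    MonoidHom.mem_ker.2 (hμD z ((hmemD z).1 hz))
  have h1 : μ' (∏ a, f a) = μ y ^ Nat.card (Cfsg.pCore q H) := by
    rw [map_prod, Finset.prod_congr rfl (g := fun _ => μ y) fun a _ => ?_, Finset.prod_const,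
      Finset.card_univ, Nat.card_eq_fintype_card]
    show μ (MulAut.conjNormal ((a : H) : G) y) = μ y
    refine Units.ext ?_
    exact (mem_inertia_iff _ _).1 (hfix a.2) y
  have h2 : μ' (∏ a, f a) = 1 := by
    rw [← hz]
    exact hμD z ((hmemD z).1 hzD)
  have h3 : μ y ^ p = 1 := by
    rw [← map_pow]
    exact hμD _ (by rw [SubmonoidClass.coe_pow]; exact S.pow_mem_fixPart hnq y.2)
  refine hy (orderOf_eq_one_iff.1 (Nat.eq_one_of_dvd_coprimes
    ((Fact.out : p.Prime).coprime_iff_not_dvd.2 fun hd => S.not_dvd_card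
      (hd.trans (Cfsg.pCore q H).card_subgroup_dvd_card))
    (orderOf_dvd_of_pow_eq_one h3) (orderOf_dvd_of_pow_eq_one (h1.symm.trans h2))))

end CfsgLib.PalfyThree
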