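import Mathlib
import Cfsg.Agent.PalfyThree.Fixed

/-!
Pálfy's three primes theorem, the case of a minimal normal `p`-subgroup for the dropped prime `p`.
-/

set_option autoImplicit false
set_option linter.style.haveILetI false
set_option linter.unusedSectionVars false

namespace CfsgLib.PalfyThree

open CfsgLib.Char
open scoped commutatorElement

universe u

/-- Two equal counts of points moved by the conjugates of a Sylow subgroup. -/
theorem count_contra {p n c a w u : ℕ} (hp : p.Prime) (hn : 1 < n) (hc : c ≠ 0) (hca : c < a)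
    (h1 : n * (p ^ w - 1) = p ^ c - 1) (h2 : n * (p ^ u - 1) = p ^ a - 1) : False := by
  have hp2 := hp.two_le
  have hlt : ∀ {w c : ℕ}, c ≠ 0 → n * (p ^ w - 1) = p ^ c - 1 → 1 ≤ w ∧ w < c := by
    intro w c hc h
    have hpos : 0 < p ^ c - 1 := Nat.sub_pos_of_lt (Nat.one_lt_pow hc hp.one_lt)
    have hw : 0 < p ^ w - 1 := by
      rcases Nat.eq_zero_or_pos (p ^ w - 1) with h0 | h0
      · rw [h0, mul_zero] at h; omega
      · exact h0
    refine ⟨Nat.pos_of_ne_zero fun h0 => by simp [h0] at hw, ?_⟩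
    have h3 : p ^ w - 1 < p ^ c - 1 := h ▸ lt_mul_left hw hn
    exact (Nat.pow_lt_pow_iff_right hp.one_lt).1 (by omega)
  obtain ⟨hw1, hwc⟩ := hlt hc h1
  obtain ⟨hu1, hua⟩ := hlt (by omega) h2
  by_cases hx : (p, a) = (2, 6)
  · obtain ⟨rfl, rfl⟩ := Prod.mk.injEq .. ▸ hx
    have hn63 : n ∣ 2 ^ 6 - 1 := Dvd.intro _ h2
    have hnc : n ∣ 2 ^ c - 1 := Dvd.intro _ h1
    have hnle : n ≤ 2 ^ c - 1 :=
      Nat.le_of_dvd (Nat.sub_pos_of_lt (Nat.one_lt_pow hc (by norm_num))) hnc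
    interval_cases c <;> interval_cases u <;> norm_num at h2 hnc hnle <;>
      first
      | omega
      | (rcases (show n = 21 ∨ n = 9 by omega) with rfl | rfl <;> norm_num at hnc)
  · obtain ⟨l, hl⟩ := exists_prim hp2 (show 3 ≤ a by omega) hx
    have hln : l ∣ n := ((hl.1.dvd_mul).1 (h2 ▸ hl.2.1)).resolve_right (hl.2.2 u (by omega) hua)
    exact hl.2.2 c (by omega) hca (h1 ▸ hln.mul_right _)

variable {G : Type u} [Group G] {p : ℕ} {N P H : Subgroup G} [N.Normal] [P.Normal] [Finite G]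

theorem index_stabIn (S : Setup G p N P H) {θ : P → ℂ} (hθ : Cfsg.IsIrrCharacter P θ) :
    (stabIn H θ).index = (inertia θ).index := by
  haveI := Fintype.ofFinite G
  obtain ⟨π, -, hπid, hπX⟩ := exists_retraction P H S.sup S.inf
  have hXT : P ≤ inertia θ := le_inertia (IsIrrCharacter.isClassFunction hθ)
  have hπT : (stabIn H θ).comap π = inertia θ := by
    ext g
    rw [Subgroup.mem_comap, mem_stabIn]
    have h1 : g * (π g : G)⁻¹ ∈ inertia θ := hXT (hπX g)
    constructor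
    · intro h
      have h2 := mul_mem h1 h
      rwa [inv_mul_cancel_right] at h2
    · intro h
      have h2 := mul_mem (inv_mem h1) h
      rwa [mul_inv_rev, inv_inv, mul_assoc, inv_mul_cancel, mul_one] at h2
  rw [← hπT, Subgroup.index_comap_of_surjective _ (show Function.Surjective π from fun h => ⟨(h : G), hπid h⟩)]

variable [Fact p.Prime] [Group.IsSolvable G] {q r : ℕ} [Fact q.Prime] [Fact r.Prime]

/-- The degree of a character over a moved linear character of `P` is divisible by `q`. -/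
theorem Setup.dvd_index_of_moved (S : Setup G p N P H) {μ : P →* ℂˣ}
    (hμ : ¬ Cfsg.pCore q H ≤ stabHom H μ) :
    q ∣ (inertia fun n : P => (μ n : ℂ)).index := by
  by_contra h
  rw [← index_stabIn S (isIrrCharacter_ofHom μ)] at h
  obtain ⟨Q, hQ, -⟩ := exists_sylow_le_mem h (one_mem _) (k := 0) (one_pow _)
  exact hμ ((Fitting.pCore_le_sylow Q).trans hQ)

/-- A moved linear character of `P` has a stabiliser with just one Sylow `r`-subgroup. -/
theorem Setup.stab_of_moved (S : Setup G p N P H) (hqr : q ≠ r) (hno : NoDeg G (q * r))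
    {μ : P →* ℂˣ} (hμ : ¬ Cfsg.pCore q H ≤ stabHom H μ) :
    ¬ r ∣ (stabHom H μ).index ∧ NoDeg (stabHom H μ) r := by
  classical
  haveI := Fintype.ofFinite G
  haveI := Fintype.ofFinite P
  obtain ⟨E, hE, hEX⟩ := exists_linear_extension P H S.sup S.inf μ
  exact inertia_noDeg P H S.sup S.inf (isIrrCharacter_ofHom μ) hE hEX fun χ hχ hc d hd hr =>
    hno χ hχ d hd (((Nat.coprime_primes Fact.out Fact.out).2 hqr).mul_dvd_of_dvd_of_dvd
      ((S.dvd_index_of_moved hμ).trans (DegreesPrime.index_inertia_dvd hχ μ hc hd)) hr)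

theorem Setup.pCore_le_of_moved (S : Setup G p N P H) (hqr : q ≠ r) (hno : NoDeg G (q * r))
    {μ : P →* ℂˣ} (hμ : ¬ Cfsg.pCore q H ≤ stabHom H μ) :
    Cfsg.pCore r H ≤ stabHom H μ := by
  obtain ⟨R, hR, -, -, -⟩ := sylow_of_noDeg (S.stab_of_moved hqr hno hμ).1 (S.stab_of_moved hqr hno hμ).2
  exact (Fitting.pCore_le_sylow R).trans hR

section bar

variable {D : Subgroup G} [D.Normal]

/-- A linear character of the image of `P` in `G ⧸ D`, on `P`. -/
noncomputable def liftHom (v : P.map (QuotientGroup.mk' D) →* ℂˣ) : P →* ℂˣ :=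
  v.comp ((QuotientGroup.mk' D).subgroupMap P)

theorem liftHom_eq_one_iff (v : P.map (QuotientGroup.mk' D) →* ℂˣ) : liftHom v = 1 ↔ v = 1 := by
  refine ⟨fun h => MonoidHom.ext fun z => ?_, fun h => by rw [h]; rfl⟩
  obtain ⟨y, rfl⟩ := (QuotientGroup.mk' D).subgroupMap_surjective P z
  exact DFunLike.congr_fun h y

theorem liftHom_apply_of_mem (v : P.map (QuotientGroup.mk' D) →* ℂˣ) (y : P) (hy : (y : G) ∈ D) :
    liftHom v y = 1 := by
  show v ((QuotientGroup.mk' D).subgroupMap P y) = 1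
  rw [show (QuotientGroup.mk' D).subgroupMap P y = 1 from
    Subtype.ext ((QuotientGroup.eq_one_iff (N := D) (y : G)).2 hy), map_one]

theorem mem_stabHom_liftHom (v : P.map (QuotientGroup.mk' D) →* ℂˣ) (x : H) :
    x ∈ stabHom H (liftHom v) ↔
      DegreesPrime.act (P.map (QuotientGroup.mk' D)) (QuotientGroup.mk' D (x : G)) v = v := by
  haveI : (P.map (QuotientGroup.mk' D)).Normal :=
    ‹P.Normal›.map _ (QuotientGroup.mk'_surjective D)
  rw [act_fix_iff, mem_stabIn, mem_inertia_iff, mem_inertia_iff]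
  constructor
  · intro h z
    obtain ⟨y, rfl⟩ := (QuotientGroup.mk' D).subgroupMap_surjective P z
    exact h y
  · intro h y
    exact h ((QuotientGroup.mk' D).subgroupMap P y)

theorem bar_abelian (S : Setup G p N P H) (hND : N ≤ D) :
    ∀ a ∈ P.map (QuotientGroup.mk' D), ∀ b ∈ P.map (QuotientGroup.mk' D), a * b = b * a := by
  rintro _ ⟨x, hx, rfl⟩ _ ⟨y, hy, rfl⟩
  rw [← commutatorElement_eq_one_iff_mul_comm, ← map_commutatorElement]
  exact (QuotientGroup.eq_one_iff _).2 (hND (S.bracket_mem hx hy))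

theorem card_bar : Nat.card (P.map (QuotientGroup.mk' D)) = D.relIndex P := by
  rw [← Subgroup.relIndex_ker, QuotientGroup.ker_mk']

end bar

/-- There is a linear character of `P` moved by the `q`-core. -/
theorem Setup.exists_moved (S : Setup G p N P H) (hnq : NoDegOver N q)
    (hQ : Cfsg.pCore q H ≠ ⊥) : ∃ μ : P →* ℂˣ, ¬ Cfsg.pCore q H ≤ stabHom H μ := by
  haveI := S.fixPart_normal hnq
  have hlt := S.card_lt hnq hQ
  haveI := nontrivial_dual (P.map (QuotientGroup.mk' (fixPart q P H)))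
    (bar_abelian S (S.le_fixPart hnq)) fun h => by
      have h1 : (fixPart q P H).relIndex P = 1 := by rw [← card_bar, h, Subgroup.card_bot]
      have h2 : 0 < Nat.card N := Nat.card_pos
      omega
  obtain ⟨v, hv⟩ := exists_ne (1 : P.map (QuotientGroup.mk' (fixPart q P H)) →* ℂˣ)
  exact ⟨liftHom v, S.not_fixed hnq _ (fun h => hv ((liftHom_eq_one_iff v).1 h))
    fun y hy => liftHom_apply_of_mem v y hy⟩

/-- Counting excludes a single non-trivial core. -/
theorem Setup.other_core (S : Setup G p N P H) (hqr : q ≠ r) (hnq : NoDegOver N q)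
    (hnr : NoDegOver N r) (hrH : r ∣ Nat.card H) (hno : NoDeg G (q * r))
    (hQ : Cfsg.pCore q H ≠ ⊥) : Cfsg.pCore r H ≠ ⊥ := by
  intro hR
  haveI := Fintype.ofFinite G
  have hn1 : 1 < Nat.card (Sylow r H) := by
    by_contra h
    haveI : Subsingleton (Sylow r H) := Finite.card_le_one_iff_subsingleton.1 (not_lt.1 h)
    obtain ⟨R⟩ : Nonempty (Sylow r H) := inferInstance
    have h1 : (R : Subgroup H) = ⊥ := le_bot_iff.1 (hR ▸ Solvable.le_pCore r (Sylow.normal_of_subsingleton R) R.2)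
    exact R.ne_bot_of_dvd_card hrH h1
  have hp : p.Prime := Fact.out
  obtain ⟨c, hc⟩ : ∃ c, Nat.card N = p ^ c :=
    IsPGroup.exists_card_eq (S.isPGroup.to_le S.le)
  have hc0 : c ≠ 0 := by
    rintro rfl
    exact S.ne_bot (Subgroup.card_eq_one.1 (by rw [hc, pow_zero]))
  haveI := finite_dual N
  obtain ⟨w, -, hw⟩ := count_card ((DegreesPrime.act N).comp H.subtype) (hom_pow N S.exponent)
    ((card_dual N S.abelian).trans hc) fun l hl => by
    obtain ⟨R, hRl, hRu, -⟩ := S.exists_sylow hnr l hl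
    exact ⟨R, fun x hx => (act_fix_iff N (x : G) l).2 (hRl hx),
      fun R' hR' => hRu R' fun x hx => (act_fix_iff N (x : G) l).1 (hR' x hx)⟩
  haveI := S.fixPart_normal hnq
  haveI : (P.map (QuotientGroup.mk' (fixPart q P H))).Normal :=
    ‹P.Normal›.map _ (QuotientGroup.mk'_surjective _)
  have hexp : ∀ z ∈ P.map (QuotientGroup.mk' (fixPart q P H)), z ^ p = 1 := by
    rintro _ ⟨x, hx, rfl⟩
    rw [← map_pow]
    exact (QuotientGroup.eq_one_iff _).2 (S.pow_mem_fixPart hnq hx)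
  obtain ⟨a, ha⟩ : ∃ a, Nat.card (P.map (QuotientGroup.mk' (fixPart q P H))) = p ^ a :=
    IsPGroup.exists_card_eq (S.isPGroup.map _)
  have hca : c < a := by
    have h := S.card_lt hnq hQ
    rw [← card_bar, ha, hc] at h
    exact (Nat.pow_lt_pow_iff_right hp.one_lt).1 h
  haveI := finite_dual (P.map (QuotientGroup.mk' (fixPart q P H)))
  obtain ⟨u, -, hu⟩ := count_card
    ((DegreesPrime.act (P.map (QuotientGroup.mk' (fixPart q P H)))).comp
      ((QuotientGroup.mk' (fixPart q P H)).comp H.subtype))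
    (hom_pow _ hexp) ((card_dual _ (bar_abelian S (S.le_fixPart hnq))).trans ha) fun v hv => by
    have hμ := S.not_fixed hnq (liftHom v) (fun h => hv ((liftHom_eq_one_iff v).1 h))
      (fun y hy => liftHom_apply_of_mem v y hy)
    exact exists_unique_fix _ v (fun x => mem_stabHom_liftHom v x)
      (S.stab_of_moved hqr hno hμ).1 (S.stab_of_moved hqr hno hμ).2
  exact count_contra hp hn1 hc0 hca hw hu

/-- The case of a minimal normal `p`-subgroup. -/
theorem Setup.false_of_normal (S : Setup G p N P H) (hqr : q ≠ r) (hnq : NoDegOver N q)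
    (hnr : NoDegOver N r) (hqH : q ∣ Nat.card H) (hrH : r ∣ Nat.card H)
    (hno : NoDeg G (q * r)) : False := by
  classical
  haveI := Fintype.ofFinite G
  have hno' : NoDeg G (r * q) := by rwa [mul_comm]
  by_cases hQ : Cfsg.pCore q H = ⊥
  swap
  · have hR := S.other_core hqr hnq hnr hrH hno hQ
    obtain ⟨μ, hμ⟩ := S.exists_moved hnq hQ
    obtain ⟨μ', hμ'⟩ := S.exists_moved hnr hR
    have hle := S.pCore_le_of_moved hqr hno hμ
    have hle' := S.pCore_le_of_moved hqr.symm hno' hμ'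
    have hmul : ∀ {ν ν' : P →* ℂˣ} {x : H}, x ∈ stabHom H (ν * ν') → x ∈ stabHom H ν' →
        x ∈ stabHom H ν := by
      intro ν ν' x h h'
      rw [mem_stabIn, mem_inertia_iff] at h h' ⊢
      intro n
      have h1 := h n
      rw [MonoidHom.mul_apply, MonoidHom.mul_apply, Units.val_mul, Units.val_mul, h' n] at h1
      exact mul_right_cancel₀ (Units.ne_zero _) h1
    have hq : ¬ Cfsg.pCore q H ≤ stabHom H (μ * μ') := fun h =>
      hμ fun x hx => hmul (h hx) (hle' hx)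
    have hr : ¬ Cfsg.pCore r H ≤ stabHom H (μ * μ') := fun h =>
      hμ' fun x hx => hmul (ν' := μ) (by rw [mul_comm μ' μ]; exact h hx) (hle hx)
    haveI := Fintype.ofFinite P
    obtain ⟨f, hf, hfc⟩ := DegreesPrime.exists_over P (isIrrCharacter_ofHom (μ * μ'))
    obtain ⟨d, -, hd⟩ := IsIrrCharacter.exists_degree hf
    have hdvd := DegreesPrime.index_inertia_dvd hf (μ * μ') hfc hd
    exact hno f hf d hd (((Nat.coprime_primes Fact.out Fact.out).2 hqr).mul_dvd_of_dvd_of_dvd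
      ((S.dvd_index_of_moved hq).trans hdvd) ((S.dvd_index_of_moved hr).trans hdvd))
  have hR : Cfsg.pCore r H = ⊥ := by
    by_contra hR
    exact S.other_core hqr.symm hnr hnq hqH hno' hR hQ
  let ρ₀ : H →* MulAut (N →* ℂˣ) := (DegreesPrime.act N).comp H.subtype
  have hstab : ∀ (l : N →* ℂˣ) (x : H), x ∈ stabHom H l ↔ ρ₀ x l = l := fun l x =>
    (act_fix_iff N (x : G) l).symm
  haveI := finite_dual N
  haveI := nontrivial_dual N S.abelian S.ne_bot
  have hkey : ∀ (t : ℕ) [Fact t.Prime], NoDegOver N t → Cfsg.pCore t H = ⊥ →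
      t ∣ Nat.card H → t ∣ Nat.card ρ₀.range ∧
      ∀ l : N →* ℂˣ, l ≠ 1 → ∃! Q : Sylow t ρ₀.range, l ∈ fixOf ρ₀.range.subtype Q := by
    intro t _ hnt hT htH
    constructor
    · by_contra hnd
      rw [← ρ₀.ker.card_mul_index, Subgroup.index_ker] at htH
      obtain ⟨x, hx⟩ := exists_prime_orderOf_dvd_card' (G := ρ₀.ker) t
        (((Fact.out : t.Prime).dvd_mul.1 htH).resolve_right hnd)
      obtain ⟨l, hl⟩ := exists_ne (1 : N →* ℂˣ)
      obtain ⟨Q, hQl, hQu, -⟩ := S.exists_sylow hnt l hl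
      have hker : ∀ z ∈ ρ₀.ker, z ∈ stabHom H l := fun z hz => by
        rw [hstab, MonoidHom.mem_ker.1 hz, MulAut.one_apply]
      have hmemQ : ∀ z : H, z ∈ ρ₀.ker → (∃ k : ℕ, z ^ t ^ k = 1) → z ∈ (Q : Subgroup H) := by
        rintro z hz ⟨k, hk⟩
        obtain ⟨Q', hQ'l, hzQ'⟩ := exists_sylow_le_mem
          (fun h => Q.not_dvd_index (h.trans (Subgroup.index_dvd_of_le hQl))) (hker z hz) hk
        exact hQu Q' hQ'l ▸ hzQ'
      have hpow : ∀ z ∈ (Q : Subgroup H), ∃ k : ℕ, z ^ t ^ k = 1 := fun z hz => by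
        obtain ⟨k, hk⟩ := Q.2 ⟨z, hz⟩
        exact ⟨k, by simpa using congrArg Subtype.val hk⟩
      have hUn : (ρ₀.ker ⊓ (Q : Subgroup H)).Normal := ⟨fun z hz g => by
        have h1 : g * z * g⁻¹ ∈ ρ₀.ker := (inferInstance : ρ₀.ker.Normal).conj_mem z hz.1 g
        obtain ⟨k, hk⟩ := hpow z hz.2
        exact ⟨h1, hmemQ _ h1 ⟨k, by rw [conj_pow, hk, mul_one, mul_inv_cancel]⟩⟩⟩
      have hxU : (x : H) ∈ ρ₀.ker ⊓ (Q : Subgroup H) := ⟨x.2, hmemQ _ x.2 ⟨1, by
        rw [pow_one, ← SubmonoidClass.coe_pow, ← hx, pow_orderOf_eq_one, OneMemClass.coe_one]⟩⟩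
      have h1 := Solvable.le_pCore t hUn (Q.2.to_le inf_le_right) hxU
      rw [hT, Subgroup.mem_bot, OneMemClass.coe_eq_one] at h1
      rw [h1, orderOf_one] at hx
      exact (Fact.out : t.Prime).one_lt.ne hx
    · intro l hl
      obtain ⟨Q, hQl, hQu, -⟩ := S.exists_sylow hnt l hl
      refine ⟨Q.mapSurjective ρ₀.rangeRestrict_surjective, ?_, fun Q' hQ' => ?_⟩
      · rintro _ ⟨x, hx, rfl⟩
        exact (hstab l x).1 (hQl hx)
      · obtain ⟨Q₂, rfl⟩ := Sylow.mapSurjective_surjective ρ₀.rangeRestrict_surjective t Q'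
        rw [hQu Q₂ fun x hx => (hstab l x).2 (hQ' _ ⟨x, hx, rfl⟩)]
  have hNmin : ∀ M : Subgroup G, M.Normal → M ≤ N → M = ⊥ ∨ M = N := fun M hM hMN =>
    (eq_or_ne M ⊥).imp id fun h => le_antisymm hMN (S.unique M hM h)
  have hirr : ∀ W : Subgroup (N →* ℂˣ), (∀ g, ∀ v ∈ W, ρ₀.range.subtype g v ∈ W) → W = ⊥ ∨ W = ⊤ := by
    intro W hW
    refine irreducible_dual N S.abelian hNmin W fun g v hv => ?_
    obtain ⟨x, hx, h, hh, rfl⟩ := Subgroup.mem_sup_of_normal_left.1 (S.sup ▸ Subgroup.mem_top g)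
    rw [map_mul, (DegreesPrime.act_eq_one_iff N S.abelian x).2
      (Subgroup.mem_centralizer_iff.2 fun m hm => S.central m hm x hx), one_mul]
    exact hW ⟨_, ⟨⟨h, hh⟩, rfl⟩⟩ v hv
  haveI : Group.IsSolvable ρ₀.range :=
    Group.isSolvable_of_surjective ρ₀.rangeRestrict_surjective
  have hcomm : ∀ l : N →* ℂˣ, l ≠ 1 → ∀ (Q : Sylow q ρ₀.range) (R : Sylow r ρ₀.range),
      l ∈ fixOf ρ₀.range.subtype Q → l ∈ fixOf ρ₀.range.subtype R →
      ∀ x ∈ (Q : Subgroup ρ₀.range), ∀ y ∈ (R : Subgroup ρ₀.range), Commute x y := by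
    intro l hl Q' R' hQ' hR' x hx y hy
    obtain ⟨Q, rfl⟩ := Sylow.mapSurjective_surjective ρ₀.rangeRestrict_surjective q Q'
    obtain ⟨R, rfl⟩ := Sylow.mapSurjective_surjective ρ₀.rangeRestrict_surjective r R'
    obtain ⟨x, hxQ, rfl⟩ := hx
    obtain ⟨y, hyR, rfl⟩ := hy
    obtain ⟨Q₀, -, hQu, hQθ⟩ := S.exists_sylow hnq l hl
    obtain ⟨R₀, -, hRu, hRθ⟩ := S.exists_sylow hnr l hl
    obtain rfl := hQu Q fun z hz => (hstab l z).2 (hQ' _ ⟨z, hz, rfl⟩)
    obtain rfl := hRu R fun z hz => (hstab l z).2 (hR' _ ⟨z, hz, rfl⟩)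
    obtain ⟨m, T, hT, -, θ, hθT⟩ := S.exists_over_hom l
    obtain ⟨hθ, ho⟩ := (hT θ).1 hθT
    exact (commute_of_noDeg hqr (S.stab_spec hnq hθ hl ho).1 (S.stab_spec hnq hθ hl ho).2
      (S.stab_spec hnr hθ hl ho).1 (S.stab_spec hnr hθ hl ho).2 (hQθ θ hθ ho) (hRθ θ hθ ho) x hxQ y hyR).map _
  obtain ⟨χ, d, hχ, hd, hdvd⟩ := exists_degree (V := N →* ℂˣ) (hom_pow N S.exponent) ρ₀.range.subtype
    Subtype.val_injective hirr hqr (hkey q hnq hQ hqH).1 (hkey r hnr hR hrH).1
    (hkey q hnq hQ hqH).2 (hkey r hnr hR hrH).2 hcomm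
  obtain ⟨π, -, hπid, -⟩ := exists_retraction P H S.sup S.inf
  exact hno _ (IsIrrCharacter.comp_surjective hχ (ρ₀.rangeRestrict.comp π)
      (ρ₀.rangeRestrict_surjective.comp fun h => ⟨(h : G), hπid h⟩)) d (by rw [map_one, hd]) hdvd

end CfsgLib.PalfyThree
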