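import Mathlib
import Cfsg.Agent.PalfyThree.Complement
import Cfsg.Agent.PalfyThree.Normal

/-!
Pálfy's three primes theorem.
-/

set_option autoImplicit false
set_option linter.style.haveILetI false
set_option linter.unusedSectionVars false

namespace CfsgLib.PalfyThree

open CfsgLib.Char
open scoped commutatorElement

universe u

/-- A unique minimal normal subgroup dropping `p` gives a degree divisible by two of the primes. -/
theorem false_of_drop {G : Type u} [Group G] [Fintype G] [Group.IsSolvable G] (N : Subgroup G)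
    [N.Normal] (hU : ∀ M : Subgroup G, M.Normal → M ≠ ⊥ → N ≤ M) (hN1 : N ≠ ⊥)
    (hab : ∀ a ∈ N, ∀ b ∈ N, a * b = b * a) {s : ℕ} [hs : Fact s.Prime]
    (hexp : ∀ x ∈ N, x ^ s = 1) {p q r : ℕ} [hp : Fact p.Prime] [hq : Fact q.Prime]
    [hr : Fact r.Prime] (hpq : p ≠ q) (hqr : q ≠ r) (hpr : p ≠ r) (hpG : ¬ NoDeg G p)
    (hqG : ¬ NoDeg G q) (hrG : ¬ NoDeg G r) (hdrop : NoDeg (G ⧸ N) p)
    (h1 : NoDeg G (p * q)) (h2 : NoDeg G (q * r)) (h3 : NoDeg G (p * r)) : False := by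
  classical
  have hNmin : ∀ M : Subgroup G, M.Normal → M ≤ N → M = ⊥ ∨ M = N := fun M hM hMN =>
    (eq_or_ne M ⊥).imp id fun h => le_antisymm hMN (hU M hM h)
  have hover : ∀ {t : ℕ} [Fact t.Prime], p ≠ t → NoDeg G (p * t) →
      ∀ χ : G → ℂ, Cfsg.IsIrrCharacter G χ → (∃ n ∈ N, χ n ≠ χ 1) → ∀ d : ℕ, χ 1 = d → ¬ t ∣ d :=
    fun hpt hno χ hχ ⟨n, hn, hne⟩ d hd ht =>
      hno χ hχ d hd (((Nat.coprime_primes Fact.out Fact.out).2 hpt).mul_dvd_of_dvd_of_dvd
        (dvd_of_nontrivial N hNmin hab hdrop hpG hχ hn hne hd) ht)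
  have hidx : ∀ {t : ℕ} [Fact t.Prime], p ≠ t → NoDeg G (p * t) → ¬ NoDeg G t → t ∣ N.index := by
    intro t _ hpt hno htG
    by_contra hni
    obtain ⟨χ, hχ, n, hn, hne⟩ := exists_nontrivial_character N hab hN1
    obtain ⟨d, -, hd⟩ := IsIrrCharacter.exists_degree hχ
    have hdrop' : NoDeg (G ⧸ N) t := fun ψ hψ m hm htm =>
      hni (N.index_eq_card ▸ htm.trans (IsIrrCharacter.degree_dvd_card hψ hm))
    exact hno χ hχ d hd (((Nat.coprime_primes Fact.out Fact.out).2 hpt).mul_dvd_of_dvd_of_dvd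
      (dvd_of_nontrivial N hNmin hab hdrop hpG hχ hn hne hd)
      (dvd_of_nontrivial N hNmin hab hdrop' htG hχ hn hne hd))
  obtain ⟨X, hXn, hNX, hXi, hXr, hcX⟩ := exists_preimage N hdrop
  haveI := hXn
  have hcom := commutator_preimage hNmin hpG hXi hcX
  by_cases hsp : s = p
  swap
  · exact false_of_complement N hU hN1 hab hexp hsp hNX hXi hXr hcom hqr (hover hpq h1)
      (hover hpr h3) (hidx hpq h1 hqG) (hidx hpr h3 hrG) h2
  subst hsp
  have hNs : IsPGroup s N := fun x => ⟨1, Subtype.ext (by simpa using hexp x x.2)⟩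
  obtain ⟨k, hk⟩ := hXr
  obtain ⟨c, hc⟩ := IsPGroup.iff_card.1 hNs
  have hcardX : Nat.card X = s ^ (c + k) := by
    rw [← Subgroup.relIndex_bot_left X, ← Subgroup.relIndex_mul_relIndex ⊥ N X bot_le hNX,
      Subgroup.relIndex_bot_left, hc, hk, pow_add]
  have hXp : IsPGroup s X := IsPGroup.of_card hcardX
  obtain ⟨H, hH⟩ := Subgroup.exists_right_complement'_of_coprime (N := X) (by
    rw [hcardX]; exact Nat.Coprime.pow_left _ (hp.out.coprime_iff_not_dvd.2 hXi))
  have hcentral : N ≤ Subgroup.centralizer (X : Set G) := by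
    have hne : N.subgroupOf X ≠ ⊥ := fun h => hN1 (by
      rw [← inf_eq_left.2 hNX, ← Subgroup.subgroupOf_map_subtype, h, Subgroup.map_bot])
    haveI : Group.IsNilpotent X := hXp.isNilpotent
    have hZ := PGroupBasic.inf_center_ne_bot (N.subgroupOf X) hne
    refine (hU (N ⊓ Subgroup.centralizer (X : Set G)) inferInstance fun h => hZ ?_).trans inf_le_right
    rw [eq_bot_iff]
    rintro x ⟨hx1, hx2⟩
    have h1 : (x : G) ∈ N ⊓ Subgroup.centralizer (X : Set G) := ⟨hx1, fun m hm => by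
      exact congrArg Subtype.val (Subgroup.mem_center_iff.1 hx2 ⟨m, hm⟩)⟩
    rw [h, Subgroup.mem_bot] at h1
    exact Subgroup.mem_bot.2 (Subtype.ext h1)
  have S : Setup G s N X H :=
    ⟨hNX, hXp, hXi, hU, hN1, hab, hexp, hcom, fun n hn x hx =>
      (Subgroup.mem_centralizer_iff.1 (hcentral hn) x hx).symm, hH.sup_eq_top,
      disjoint_iff.1 hH.disjoint, hH.symm.index_eq_card.symm⟩
  have hdvd : ∀ {t : ℕ} [Fact t.Prime], s ≠ t → t ∣ N.index → t ∣ Nat.card H := by
    intro t _ hst ht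
    rw [← Subgroup.relIndex_mul_index hNX, hk] at ht
    rw [S.card]
    refine (((Fact.out : t.Prime).dvd_mul).1 ht).resolve_left fun h => hst ?_
    exact ((Nat.prime_dvd_prime_iff_eq Fact.out hs.out).1
      ((Fact.out : t.Prime).dvd_of_dvd_pow h)).symm
  exact S.false_of_normal hqr (hover hpq h1) (hover hpr h3) (hdvd hpq (hidx hpq h1 hqG))
    (hdvd hpr (hidx hpr h3 hrG)) h2

/-- Pálfy's three primes theorem. -/
theorem false_of_three (n : ℕ) :
    ∀ (G : Type u) [Group G] [Finite G], Nat.card G = n → Group.IsSolvable G →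
      ∀ (p q r : ℕ), p.Prime → q.Prime → r.Prime → p ≠ q → q ≠ r → p ≠ r →
      ¬ NoDeg G p → ¬ NoDeg G q → ¬ NoDeg G r →
      NoDeg G (p * q) → NoDeg G (q * r) → NoDeg G (p * r) → False := by
  induction n using Nat.strong_induction_on with | _ n ih => ?_
  intro G _ _ hn hsolv p q r hp hq hr hpq hqr hpr hpG hqG hrG h1 h2 h3
  classical
  haveI := Fintype.ofFinite G
  haveI := hsolv
  haveI := Fact.mk hp
  haveI := Fact.mk hq
  haveI := Fact.mk hr
  have hdrop : ∀ (M : Subgroup G) [M.Normal], M ≠ ⊥ →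
      NoDeg (G ⧸ M) p ∨ NoDeg (G ⧸ M) q ∨ NoDeg (G ⧸ M) r := by
    intro M _ hM
    by_contra! h
    exact ih _ (hn ▸ Solvable.card_quotient_lt hM) (G ⧸ M) rfl inferInstance p q r hp hq hr hpq hqr hpr
      h.1 h.2.1 h.2.2 (noDeg_of_surjective (QuotientGroup.mk'_surjective M) h1)
      (noDeg_of_surjective (QuotientGroup.mk'_surjective M) h2)
      (noDeg_of_surjective (QuotientGroup.mk'_surjective M) h3)
  have htop : (⊤ : Subgroup G) ≠ ⊥ := fun h => hpG fun χ hχ d hd hpd => hp.ne_one (by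
    have h1 := hpd.trans (IsIrrCharacter.degree_dvd_card hχ hd)
    rw [← Subgroup.card_top, h, Subgroup.card_bot] at h1
    exact Nat.dvd_one.1 h1)
  obtain ⟨N, hN, hN1, -, hNc, hNmin, s, hs, hexp, -⟩ :=
    Solvable.exists_normal_elementary_le (N := (⊤ : Subgroup G)) htop inferInstance
  haveI := hN
  haveI := Fact.mk hs
  have hab : ∀ a ∈ N, ∀ b ∈ N, a * b = b * a := fun a ha b hb =>
    congrArg Subtype.val (hNc.is_comm.comm ⟨a, ha⟩ ⟨b, hb⟩)
  have h1' : NoDeg G (q * p) := by rwa [mul_comm]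
  have h2' : NoDeg G (r * q) := by rwa [mul_comm]
  have h3' : NoDeg G (r * p) := by rwa [mul_comm]
  have hU : ∀ M : Subgroup G, M.Normal → M ≠ ⊥ → N ≤ M := by
    intro M₀ hM₀ hM₀1
    haveI := hM₀
    obtain ⟨M, hM, hM1, hMM₀, hMc, hMmin, -⟩ :=
      Solvable.exists_normal_elementary_le (N := M₀) hM₀1 inferInstance
    haveI := hM
    by_cases hNM : N = M
    · exact hNM ▸ hMM₀
    exfalso
    have hMab : ∀ a ∈ M, ∀ b ∈ M, a * b = b * a := fun a ha b hb =>
      congrArg Subtype.val (hMc.is_comm.comm ⟨a, ha⟩ ⟨b, hb⟩)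
    have hinf : N ⊓ M = ⊥ := (hNmin _ inferInstance inf_le_left).resolve_right fun h =>
      hNM (le_antisymm (inf_eq_left.1 h) ((hMmin N hN (inf_eq_left.1 h)).resolve_left hN1).ge)
    rcases hdrop N hN1 with hN' | hN' | hN' <;> rcases hdrop M hM1 with hM' | hM' | hM'
    · exact hpG (noDeg_of_two_drops hinf hN' hM')
    · exact not_noDeg_mul_of_two_drops hNmin hMmin hN1 hM1 hab hMab hinf hpq hN' hM' hpG hqG h1
    · exact not_noDeg_mul_of_two_drops hNmin hMmin hN1 hM1 hab hMab hinf hpr hN' hM' hpG hrG h3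
    · exact not_noDeg_mul_of_two_drops hNmin hMmin hN1 hM1 hab hMab hinf hpq.symm hN' hM' hqG hpG h1'
    · exact hqG (noDeg_of_two_drops hinf hN' hM')
    · exact not_noDeg_mul_of_two_drops hNmin hMmin hN1 hM1 hab hMab hinf hqr hN' hM' hqG hrG h2
    · exact not_noDeg_mul_of_two_drops hNmin hMmin hN1 hM1 hab hMab hinf hpr.symm hN' hM' hrG hpG h3'
    · exact not_noDeg_mul_of_two_drops hNmin hMmin hN1 hM1 hab hMab hinf hqr.symm hN' hM' hrG hqG h2'
    · exact hrG (noDeg_of_two_drops hinf hN' hM')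
  rcases hdrop N hN1 with h | h | h
  · exact false_of_drop N hU hN1 hab hexp hpq hqr hpr hpG hqG hrG h h1 h2 h3
  · exact false_of_drop N hU hN1 hab hexp hpq.symm hpr hqr hqG hpG hrG h h1' h3 h2
  · exact false_of_drop N hU hN1 hab hexp hpr.symm hpq hqr.symm hrG hpG hqG h h3' h1 h2'

end CfsgLib.PalfyThree
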